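import Cfsg.Agent.Lib.KnownB.Mult.HS.P3Table

/-! Certificate at 3 for the double cover of the Higman-Sims group. -/

set_option autoImplicit false
set_option maxRecDepth 100000
set_option Elab.async false

namespace CfsgLib.KnownB.Mult.HS.P3

open CfsgLib.KnownB.Mult

/-- the certificate -/
def cert : Cert C where
  n := 2
  σ := [tab.getD 25 ([], []),
    tab.getD 11 ([], [])]
  rules := [([0, 0, 0], []),
    ([1, 1, 1], []),
    ([1, 0], [0, 1])]
  conjs := [(tab.getD 31 ([], []), [1], [0]),
    (tab.getD 31 ([], []), [0, 1], [1]),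
    (tab.getD 31 ([], []), [0], [0, 0, 1]),
    (tab.getD 31 ([], []), [1, 1], [0, 0]),
    (tab.getD 31 ([], []), [0, 0], [0, 1, 1]),
    (tab.getD 31 ([], []), [0, 1, 1], [0, 1])]
  rows := [(.cnj 0 [0, 0] [3], [0, 0, 0, 2, 0, 0, 2]),
    (.cnj 0 [0, 2] [1], [1, 0, 2, 1, 2, 1]),
    (.cnj 0 [0, 3] [], [1, 2, 0, 1, 0, 0, 1]),
    (.cnj 0 [2, 0] [1], [1, 0, 1, 1, 2, 1]),
    (.cnj 0 [1, 1, 1] [], [2, 0, 0, 0, 0])]
  lam := [[], []]
  combos := [[(4, 1)],
    [(0, 1), (2, 1), (4, 1)],
    [(1, 2), (3, 1)]]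

theorem gen : cert.genOK K = true := by decide +kernel

theorem rel0 : (piece cert.rules 12 0).all (cert.ruleF K) = true := by decide +kernel

theorem rel_conj : (List.range cert.conjs.length).all (cert.cnjF K) = true := by decide +kernel

theorem rel : cert.relOK K = true := by
  refine Cert.relOK_of K cert (all_of_pieces _ 12 1 _ (fun i hi => ?_) (by decide +kernel)) rel_conj
  interval_cases i
  · exact rel0

theorem pcs : cert.pcOK 3 = true := by decide +kernel

theorem rows : cert.rowsOK K 3 = true := by decide +kernel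

theorem target : cert.targetOK 3 = true := by decide +kernel

theorem core : cert.Core K 3 := ⟨gen, rel, pcs, rows, target⟩

/-- transversal levels of the Sylow subgroup -/
def levels : List (ℕ × List (List ℕ)) := [
  (1, [[], [0], [1], [0, 0], [1, 0], [1, 1], [1, 0, 0], [1, 1, 0], [1, 1, 0, 0]])]

theorem levels_ok : Cert.levelsOK K cert appP Nat.beq levels [] = true := by decide +kernel

end CfsgLib.KnownB.Mult.HS.P3
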