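import Cfsg.Agent.Lib.KnownB.Mult.HS.P2
import Cfsg.Agent.Lib.KnownB.Mult.HS.P3
import Cfsg.Agent.Lib.KnownB.Mult.HS.P5
import Cfsg.Agent.Lib.Spor.HSIso

/-!
The double cover is a stem extension of the Higman-Sims group: the orders of Sylow subgroups and of
elements of order seven and eleven determine the order of the cover.
-/

set_option autoImplicit false
set_option maxRecDepth 100000
set_option Elab.async false

namespace CfsgLib.KnownB.Mult.HS

open Cfsg CfsgLib.Spor CfsgLib.Spor.HSConfig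
open CfsgLib.KnownB.Mult
open scoped commutatorElement

/-- the code of a generator -/
def genC (g : ℕ) : C := (fastMat (gProg g), aList.getD g [])

/-- the code of a word in the generators -/
def wordC (w : List ℕ) : C := w.foldr (fun g x => mulH (genC g) x) oneH

theorem exists_word : ∀ w : List ℕ, (w.all fun g => Nat.blt g 6) = true → ∃ y, RepH y (wordC w)
  | [], _ => ⟨1, rep_oneH⟩
  | g :: w, h => by
    simp only [List.all_cons, Bool.and_eq_true, Nat.blt_eq] at h
    obtain ⟨a, ha⟩ := exists_gen g h.1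
    obtain ⟨b, hb⟩ := exists_word w h.2
    exact ⟨a * b, rep_mulH (x := genC g) ha hb⟩

/-- equality of codes -/
def eqH (x y : C) : Bool := eqW x.1 y.1 && eqW x.2 y.2

theorem eqH_iff {a b : cover} {x y : C} (ha : RepH a x) (hb : RepH b y) :
    eqH x y = true ↔ a = b :=
  (code [] [] (by decide +kernel)).eq_iff ha hb

theorem seven_ok : (eqH (wordC [1, 1, 1, 1, 1, 1, 1]) oneH && !eqH (wordC [1]) oneH) = true := by
  decide +kernel

theorem eleven_ok : (eqH (wordC [3, 3, 3, 3, 3, 3, 3, 3, 3, 3, 3]) oneH && !eqH (wordC [3]) oneH) =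
    true := by
  decide +kernel

/-- two elements whose commutator is the central involution -/
def comX : List ℕ := [4, 2, 0, 4, 2, 3, 4]

/-- two elements whose commutator is the central involution -/
def comY : List ℕ := [4, 2, 0, 4, 2, 3, 2, 0, 0, 1]

theorem com_ok : (eqW (wordC (comX ++ comY)).1 (wordC (comY ++ comX)).1 &&
    !eqW (wordC (comX ++ comY)).2 (wordC (comY ++ comX)).2) = true := by decide +kernel

theorem rep_pow {a : cover} {x : C} (ha : RepH a x) :
    ∀ n, RepH (a ^ n) ((List.replicate n x).foldr mulH oneH)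
  | 0 => by rw [pow_zero]; exact rep_oneH
  | n + 1 => by rw [pow_succ', List.replicate_succ, List.foldr_cons]; exact rep_mulH ha (rep_pow ha n)

theorem wordC_replicate (g : ℕ) : ∀ n, wordC (List.replicate n g) =
    (List.replicate n (genC g)).foldr mulH oneH
  | 0 => rfl
  | n + 1 => by
    rw [List.replicate_succ, List.replicate_succ, List.foldr_cons, ← wordC_replicate g n]
    rfl

theorem dvd_of_order (q g : ℕ) (hq : q.Prime) (hg : g < 6)
    (h : (eqH (wordC (List.replicate q g)) oneH && !eqH (wordC [g]) oneH) = true) :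
    q ∣ Nat.card cover := by
  obtain ⟨a, ha⟩ := exists_gen g hg
  have ha' : RepH a (genC g) := ha
  have h1 : RepH a (wordC [g]) := by
    have := rep_mulH ha' rep_oneH
    rwa [mul_one] at this
  simp only [Bool.and_eq_true, Bool.not_eq_true'] at h
  have hp : a ^ q = 1 := by
    refine (eqH_iff (rep_pow ha' q) rep_oneH).1 ?_
    rw [← wordC_replicate]
    exact h.1
  have hne : a ≠ 1 := fun e => by
    rw [(eqH_iff h1 rep_oneH).2 e] at h
    exact Bool.noConfusion h.2
  haveI := Fact.mk hq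
  rw [← orderOf_eq_prime hp hne]
  exact orderOf_dvd_natCard a

theorem notMem_of_tables {T : List C} {P : List (ℕ × ℕ × ℕ)} {h : slpOK T P = true} {p : ℕ}
    [Fact p.Prime] (c : Cert C) (hc : c.Core (code T P h) p) (L : List (ℕ × List (List ℕ)))
    (hL : Cert.levelsOK (code T P h) c appP Nat.beq L [] = true)
    (hprod : p ^ c.n ≤ (L.map fun l => l.2.length).prod) :
    p ^ c.n ∣ Nat.card cover ∧
      ∀ {m : ℕ}, Nat.card cover = p ^ c.n * m → ¬ p ∣ m → PrimeCond cover p := by
  have hne := Cert.notMem_of_levels hc ptAct appP Nat.beq (fun h v => ptAct_app h v)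
    (fun _ _ => Nat.beq_eq ▸ Iff.rfl) L hL hprod
  exact ⟨Cert.natCard_syl hc hne ▸ Subgroup.card_subgroup_dvd_card _,
    fun hN hm => Cert.primeCond_of_notMem hc hne hN hm⟩

theorem facts_two : 2 ^ 10 ∣ Nat.card cover ∧
    ∀ {m : ℕ}, Nat.card cover = 2 ^ 10 * m → ¬ 2 ∣ m →
      (haveI : Fact (Nat.Prime 2) := ⟨by norm_num⟩; PrimeCond cover 2) :=
  haveI : Fact (Nat.Prime 2) := ⟨by norm_num⟩
  notMem_of_tables P2.cert P2.core P2.levels P2.levels_ok (by decide)

theorem facts_three : 3 ^ 2 ∣ Nat.card cover ∧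
    ∀ {m : ℕ}, Nat.card cover = 3 ^ 2 * m → ¬ 3 ∣ m →
      (haveI : Fact (Nat.Prime 3) := ⟨by norm_num⟩; PrimeCond cover 3) :=
  haveI : Fact (Nat.Prime 3) := ⟨by norm_num⟩
  notMem_of_tables P3.cert P3.core P3.levels P3.levels_ok (by decide)

theorem facts_five : 5 ^ 3 ∣ Nat.card cover ∧
    ∀ {m : ℕ}, Nat.card cover = 5 ^ 3 * m → ¬ 5 ∣ m →
      (haveI : Fact (Nat.Prime 5) := ⟨by norm_num⟩; PrimeCond cover 5) :=
  haveI : Fact (Nat.Prime 5) := ⟨by norm_num⟩
  notMem_of_tables P5.cert P5.core P5.levels P5.levels_ok (by decide)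

theorem count_of_bounds {X Y : Type*} [Group X] [Finite X] [Group Y] [Finite Y] (f : X →* Y)
    (hY : Nat.card Y = 44352000) (hk : Nat.card f.ker ≤ 2) (hd : 88704000 ∣ Nat.card X) :
    Nat.card X = 88704000 ∧ Nat.card f.ker = 2 ∧ Function.Surjective f := by
  have hpos : 0 < Nat.card X := Nat.card_pos
  have hcard : Nat.card X = Nat.card f.range * Nat.card f.ker := by
    rw [← Subgroup.index_ker, Subgroup.index_mul_card]
  have hr : Nat.card f.range ∣ 44352000 := hY ▸ Subgroup.card_subgroup_dvd_card _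
  have hr' := Nat.le_of_dvd (by norm_num) hr
  have hle : Nat.card f.range * Nat.card f.ker ≤ 44352000 * 2 := Nat.mul_le_mul hr' hk
  have hge := Nat.le_of_dvd hpos hd
  have hN : Nat.card X = 88704000 := by omega
  have hk2 : Nat.card f.ker = 2 := by nlinarith
  refine ⟨hN, hk2, MonoidHom.range_eq_top.1 ((Subgroup.card_eq_iff_eq_top _).1 ?_)⟩
  rw [hY]
  rw [hk2, hN] at hcard
  omega

theorem dvd_of_five {N : ℕ} (h2 : 2 ^ 10 ∣ N) (h3 : 3 ^ 2 ∣ N) (h5 : 5 ^ 3 ∣ N) (h7 : 7 ∣ N)
    (h11 : 11 ∣ N) : 88704000 ∣ N := by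
  have e23 := (show Nat.Coprime (2 ^ 10) (3 ^ 2) by norm_num).mul_dvd_of_dvd_of_dvd h2 h3
  have e235 := (show Nat.Coprime (2 ^ 10 * 3 ^ 2) (5 ^ 3) by norm_num).mul_dvd_of_dvd_of_dvd e23 h5
  have e7 := (show Nat.Coprime (2 ^ 10 * 3 ^ 2 * 5 ^ 3) 7 by norm_num).mul_dvd_of_dvd_of_dvd e235 h7
  have e11 := (show Nat.Coprime (2 ^ 10 * 3 ^ 2 * 5 ^ 3 * 7) 11 by norm_num).mul_dvd_of_dvd_of_dvd e7 h11
  norm_num at e11
  exact e11

theorem cover_facts : Nat.card cover = 88704000 ∧ Nat.card proj.ker = 2 ∧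
    Function.Surjective proj :=
  count_of_bounds proj ConwaySimple.natCard_hsStd card_ker_le
    (dvd_of_five facts_two.1 facts_three.1 facts_five.1
      (dvd_of_order 7 1 (by norm_num) (by norm_num) seven_ok)
      (dvd_of_order 11 3 (by norm_num) (by norm_num) eleven_ok))

theorem ker_le_commutator : proj.ker ≤ commutator cover := by
  obtain ⟨x, hx⟩ := exists_word comX (by decide)
  obtain ⟨y, hy⟩ := exists_word comY (by decide)
  have happ : ∀ u w : List ℕ, ∀ a b : cover, RepH a (wordC u) → RepH b (wordC w) →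
      (u.all fun g => Nat.blt g 6) = true → RepH (a * b) (wordC (u ++ w)) := by
    intro u
    induction u with
    | nil =>
      intro w a b ha hb _
      have : a = 1 := (eqH_iff ha rep_oneH).1 (by decide +kernel)
      rw [this, one_mul]
      exact hb
    | cons g u ih =>
      intro w a b ha hb hall
      simp only [List.all_cons, Bool.and_eq_true, Nat.blt_eq] at hall
      obtain ⟨c, hc⟩ := exists_gen g hall.1
      obtain ⟨d, hd⟩ := exists_word u hall.2
      have e : a = c * d := (eqH_iff ha (rep_mulH (x := genC g) hc hd)).1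
        (by show (eqW _ _ && eqW _ _) = true
            rw [Bool.and_eq_true, eqW_iff, eqW_iff]
            exact ⟨rfl, rfl⟩)
      rw [e, mul_assoc]
      exact rep_mulH (x := genC g) hc (ih w d b hd hb hall.2)
  have h1 := happ comX comY x y hx hy (by decide)
  have h2 := happ comY comX y x hy hx (by decide)
  have h := com_ok
  simp only [Bool.and_eq_true, Bool.not_eq_true', eqW_iff] at h
  obtain ⟨ec, en⟩ := h
  have hzk : ⁅x, y⁆ ∈ proj.ker := by
    have e : proj (x * y) = proj (y * x) := by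
      refine Subtype.ext (Subtype.ext (colsOf_injective (((x * y : cover) : G × A28ˣ).1 : Co0).2
        (((y * x : cover) : G × A28ˣ).1 : Co0).2 ?_))
      exact (h1.1.trans ec).trans h2.1.symm
    rw [MonoidHom.mem_ker, commutatorElement_def, map_mul, map_mul, map_inv, map_inv, mul_assoc,
      ← _root_.mul_inv_rev, ← map_mul, e, mul_inv_cancel]
  have hne : ⁅x, y⁆ ≠ 1 := by
    rw [Ne, commutatorElement_eq_one_iff_mul_comm]
    intro e
    rw [e] at h1
    rw [eqW_iff.2 (h1.2.symm.trans h2.2)] at en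
    exact Bool.noConfusion en
  intro z hz
  have hmem : ⁅x, y⁆ ∈ commutator cover :=
    Subgroup.commutator_mem_commutator (Subgroup.mem_top x) (Subgroup.mem_top y)
  by_cases h0 : z = 1
  · rw [h0]; exact one_mem _
  obtain ⟨u, v, huv, huniv⟩ := Nat.card_eq_two_iff.1 cover_facts.2.1
  have hmem3 : ∀ w : proj.ker, w = u ∨ w = v := fun w => by
    have : w ∈ ({u, v} : Set proj.ker) := huniv ▸ Set.mem_univ w
    simpa using this
  have hz1 : (⟨z, hz⟩ : proj.ker) ≠ 1 := fun e => h0 (congrArg Subtype.val e)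
  have hc1 : (⟨⁅x, y⁆, hzk⟩ : proj.ker) ≠ 1 := fun e => hne (congrArg Subtype.val e)
  have : (⟨z, hz⟩ : proj.ker) = ⟨⁅x, y⁆, hzk⟩ := by
    rcases hmem3 ⟨z, hz⟩ with a | a <;> rcases hmem3 ⟨⁅x, y⁆, hzk⟩ with b | b <;>
      rcases hmem3 1 with c | c <;> first
        | exact a.trans b.symm
        | exact absurd (a.trans c.symm) hz1
        | exact absurd (b.trans c.symm) hc1
  rw [show z = ⁅x, y⁆ from congrArg Subtype.val this]
  exact hmem

end CfsgLib.KnownB.Mult.HS
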