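import Cfsg.Agent.Lib.KnownB.Mult.HS.Cover
import Cfsg.Agent.Lib.KnownB.Mult.Co0Code
import Cfsg.Agent.Lib.KnownB.Mult.Chunks

/-!
Generators of the double cover of the Higman-Sims group, computable codes, and an action for bounding
Sylow subgroups from below.
-/

set_option autoImplicit false
set_option maxRecDepth 100000
set_option Elab.async false

namespace CfsgLib.KnownB.Mult.HS

open Cfsg CfsgLib.Spor CfsgLib.Spor.Config CfsgLib.Spor.HSConfig
open CfsgLib.KnownB.Mult

/-- the program of a generator -/
def gProg (g : ℕ) : List Stp := hsGens.getD g []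

/-- the image of a vector under a generator -/
def piOf (g i : ℕ) : ℕ := piPack.getD g 0 >>> (9 * i) % 512

/-- the preimage of a vector under a generator -/
def piInvOf (g i : ℕ) : ℕ := piInvPack.getD g 0 >>> (9 * i) % 512

/-- the sign of a generator at a vector -/
def sigOf (g i : ℕ) : Bool := (sigList.getD g 0).testBit i

/-- a generator permutes the vectors -/
def piOK (g : ℕ) : Bool :=
  (List.range 352).all fun i =>
    Nat.blt (piOf g i) 352 && Nat.blt (piInvOf g i) 352 &&
      Nat.beq (piInvOf g (piOf g i)) i && Nat.beq (piOf g (piInvOf g i)) i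

/-- a generator moves the vectors by its permutation -/
def overOK (g : ℕ) : Bool :=
  (List.range 352).all fun i =>
    Nat.beq (runN (gProg g) (encL (vecList.getD i []))) (encL (vecList.getD (piOf g i) []))

/-- the matrix of a generator acts by its signed permutation -/
def relOK (g : ℕ) : Bool :=
  (List.range 28).all fun k =>
    let acc := comb ((aList.getD g []).getD k 0) fPack 0
    (List.range 352).all fun i =>
      Nat.beq (dg acc i % 5)
        (bif sigOf g i then (5 - dg (fPack.getD k 0) (piOf g i)) % 5 else dg (fPack.getD k 0) (piOf g i))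

/-- matrices are canonical and inverse to each other -/
def invOK (g : ℕ) : Bool :=
  let A := aList.getD g []
  let B := aInvList.getD g []
  Nat.beq A.length 28 && Nat.beq B.length 28 && A.all okR && B.all okR &&
    eqW (mulA A B) (encA 1) && eqW (mulA B A) (encA 1)

theorem pi_ok : (List.range 6).all piOK = true := by decide +kernel
theorem over_ok0 : overOK 0 = true := by decide +kernel
theorem over_ok1 : overOK 1 = true := by decide +kernel
theorem over_ok2 : overOK 2 = true := by decide +kernel
theorem over_ok3 : overOK 3 = true := by decide +kernel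
theorem over_ok4 : overOK 4 = true := by decide +kernel
theorem over_ok5 : overOK 5 = true := by decide +kernel
theorem rel_ok0 : relOK 0 = true := by decide +kernel
theorem rel_ok1 : relOK 1 = true := by decide +kernel
theorem rel_ok2 : relOK 2 = true := by decide +kernel
theorem rel_ok3 : relOK 3 = true := by decide +kernel
theorem rel_ok4 : relOK 4 = true := by decide +kernel
theorem rel_ok5 : relOK 5 = true := by decide +kernel
theorem inv_ok : (List.range 6).all invOK = true := by decide +kernel
theorem fPack_ok : (Nat.beq fPack.length 28 && (List.range 28).all fun k =>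
    Nat.beq (pk ((List.range 352).map (dg (fPack.getD k 0)))) (fPack.getD k 0) &&
      (List.range 352).all fun i => Nat.blt (dg (fPack.getD k 0) i) 5) = true := by decide +kernel

theorem gens_len : hsGens.length = 6 := rfl

attribute [local irreducible] fPack aList aInvList piPack piInvPack sigList vecList vecPack hsGens
  pivList treeList overOK relOK fn fval okR

/-- the matrix of a code -/
def decA (x : List ℕ) : A28 := fun k => decR (x.getD (k : ℕ) 0)

theorem encA_decA {x : List ℕ} (hl : x.length = 28) (h : x.all okR = true) : encA (decA x) = x := by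
  refine List.ext_getElem (by simp [encA, p28, hl]) fun n h1 h2 => ?_
  have hn : n < 28 := hl ▸ h2
  have e := okR_iff.1 (List.all_eq_true.1 h _ (List.getElem_mem h2))
  simp only [encA, p28, List.getElem_map, List.getElem_range, dif_pos hn, decA]
  rw [List.getD_eq_getElem _ _ h2]
  exact e

theorem dg_combF {A : A28} {k : Fin 28} {i : ℕ} (hi : i < 352) :
    dg (comb (encR (A k)) fPack 0) i =
      ∑ l : Fin 28, (A k l).val * dg (fPack.getD (l : ℕ) 0) i := by
  have hf := fPack_ok
  simp only [Bool.and_eq_true, List.all_eq_true, List.mem_range, Nat.beq_eq, Nat.blt_eq] at hf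
  have e : fPack = p28.map fun j =>
      pk ((List.range 352).map ((fun j i => dg (fPack.getD j 0) i) j)) := by
    refine List.ext_getElem (by simp [p28, hf.1]) fun n h1 h2 => ?_
    rw [List.getElem_map]
    simp only [p28, List.getElem_range]
    rw [show (List.range 352).map (fun i => dg (fPack.getD n 0) i) =
      (List.range 352).map (dg (fPack.getD n 0)) from rfl, (hf.2 n (hf.1 ▸ h1)).1,
      List.getD_eq_getElem _ _ h1]
  have h0 : pk ((List.range 352).map fun _ => 0) = 0 := by decide +kernel
  have h := comb_map (List.range 352) (encR (A k)) (fun j i => dg (fPack.getD j 0) i) p28 0 (fun _ => 0)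
  rw [h0, zero_add, ← e] at h
  have hs : ∀ i, ((List.range p28.length).map fun t =>
      dg (encR (A k)) (0 + t) * dg (fPack.getD (p28.getD t 0) 0) i).sum =
      ∑ l : Fin 28, (A k l).val * dg (fPack.getD (l : ℕ) 0) i := fun i => by
    rw [← List.sum_toFinset _ (List.nodup_range), List.toFinset_range, show p28.length = 28 from rfl,
      ← Fin.sum_univ_eq_sum_range
        (fun t => dg (encR (A k)) (0 + t) * dg (fPack.getD (p28.getD t 0) 0) i) 28]
    refine Finset.sum_congr rfl fun t _ => ?_
    rw [zero_add, dg_encR]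
    simp [p28]
  rw [h, dg_pk]
  · rw [List.getD_eq_getElem _ _ (by simpa using hi), List.getElem_map, List.getElem_range, zero_add]
    exact hs i
  · intro a ha
    obtain ⟨j, hj, rfl⟩ := List.mem_map.1 ha
    rw [zero_add, hs j]
    calc (∑ l : Fin 28, (A k l).val * dg (fPack.getD (l : ℕ) 0) j) ≤ ∑ _l : Fin 28, 4 * 4 := by
          gcongr with l
          · exact Nat.le_of_lt_succ (ZMod.val_lt _)
          · exact Nat.le_of_lt_succ ((hf.2 l l.2).2 j (List.mem_range.1 hj))
      _ < 1024 := by simp

theorem exists_gen (g : ℕ) (hg : g < 6) :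
    ∃ y : cover, colsOf ((((y : G × A28ˣ).1 : G) : Co0) : Equiv.Perm leechLattice) = fastMat (gProg g) ∧
      encA ((y : G × A28ˣ).2 : A28) = aList.getD g [] := by
  have hP : gProg g ∈ hsGens := by
    have hl : hsGens.length = 6 := gens_len
    rw [gProg, List.getD_eq_getElem _ _ (hl.symm ▸ hg)]
    exact List.getElem_mem _
  obtain ⟨hok, g0, hg0, hact⟩ := gens_pair.spec _ hP
  have hpi := List.all_eq_true.1 pi_ok g (List.mem_range.2 hg)
  simp only [piOK, List.all_eq_true, List.mem_range, Bool.and_eq_true, Nat.blt_eq, Nat.beq_eq] at hpi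
  have hov : overOK g = true := by
    interval_cases g
    · exact over_ok0
    · exact over_ok1
    · exact over_ok2
    · exact over_ok3
    · exact over_ok4
    · exact over_ok5
  have hre : relOK g = true := by
    interval_cases g
    · exact rel_ok0
    · exact rel_ok1
    · exact rel_ok2
    · exact rel_ok3
    · exact rel_ok4
    · exact rel_ok5
  unfold overOK at hov
  simp only [List.all_eq_true, List.mem_range, Nat.beq_eq] at hov
  unfold relOK at hre
  simp only [List.all_eq_true, List.mem_range, Nat.beq_eq] at hre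
  have hiv := List.all_eq_true.1 inv_ok g (List.mem_range.2 hg)
  simp only [invOK, Bool.and_eq_true, Nat.beq_eq, eqW_iff] at hiv
  obtain ⟨⟨⟨⟨⟨la, lb⟩, oa⟩, ob⟩, e1⟩, e2⟩ := hiv
  set A : A28 := decA (aList.getD g []) with hA
  set B : A28 := decA (aInvList.getD g []) with hB
  have ea : encA A = aList.getD g [] := encA_decA la oa
  have eb : encA B = aInvList.getD g [] := encA_decA lb ob
  rw [← ea, ← eb, mulA_enc] at e1 e2
  let u : A28ˣ := ⟨A, B, encA_inj e1, encA_inj e2⟩
  let sg : Fin 352 → ZMod 2 := fun i => if sigOf g i then 1 else 0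
  let pi : Fin 352 → Fin 352 := fun i => ⟨piOf g i, (hpi i i.2).1.1.1⟩
  let pinv : Fin 352 → Fin 352 := fun i => ⟨piInvOf g i, (hpi i i.2).1.1.2⟩
  have two : ∀ a b : ZMod 2, a + b + b = a := by decide
  let h : Equiv.Perm SV :=
    { toFun := fun x => (pi x.1, x.2 + sg x.1)
      invFun := fun x => (pinv x.1, x.2 + sg (pinv x.1))
      left_inv := fun x => by
        have e : pinv (pi x.1) = x.1 := Fin.ext (hpi x.1 x.1.2).1.2
        simp only [e, two]
      right_inv := fun x => by
        have e : pi (pinv x.1) = x.1 := Fin.ext (hpi x.1 x.1.2).2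
        simp only [e, two] }
  have ho : Over ⟨g0, hg0⟩ h := by
    refine ⟨fun x => ?_, fun x => ?_⟩
    · show vec (pi x.1) = g0 • vec x.1
      have hn : sqNorm ((g0 • vec x.1 : leechLattice) : GolayPt → ℤ) = 32 :=
        (coe_smul_sqNorm g0 _).trans (norm_vec _)
      refine (Subtype.ext (HSConfig.encV_inj (small_of_sqNorm (le_of_eq_of_le hn (by norm_num)))
        (small_of_sqNorm (le_of_eq_of_le (norm_vec _) (by norm_num))) ?_)).symm
      rw [← runN_spec hok hact (le_of_eq_of_le (norm_vec _) (by norm_num)), encV_eq_encL,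
        encV_eq_encL, lOf_vec, lOf_vec]
      exact hov x.1 x.1.2
    · show (pi x.1, x.2 + 1 + sg x.1) = (pi x.1, x.2 + sg x.1 + 1)
      rw [add_right_comm]
  have hrel : Rel A h := by
    have base : ∀ (k : Fin 28) (i : Fin 352), fn k (h (i, 0)) = ∑ l, A k l * fn l (i, 0) := by
      intro k i
      have e := hre k k.2 i i.2
      rw [← ea, getD_encA, dg_combF i.2] at e
      show fn k (pi i, 0 + sg i) = _
      rw [zero_add, fn_eq]
      have hsum : (∑ l, A k l * fn l (i, 0)) =
          ((∑ l : Fin 28, (A k l).val * dg (fPack.getD (l : ℕ) 0) i : ℕ) : K5) := by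
        rw [Nat.cast_sum]
        refine Finset.sum_congr rfl fun l _ => ?_
        rw [fn_eq, Nat.cast_mul, ZMod.natCast_zmod_val]
        simp [sgn, fval]
      rw [hsum, ← ZMod.natCast_mod, e]
      have hf := fPack_ok
      simp only [Bool.and_eq_true, List.all_eq_true, List.mem_range, Nat.blt_eq] at hf
      have hd := (hf.2 k k.2).2 (piOf g i) (hpi i i.2).1.1.1
      unfold fval
      show sgn (sg i) * (dg (fPack.getD (k : ℕ) 0) (piOf g i) : K5) = _
      by_cases hs : sigOf g i = true
      · simp only [sg, hs, if_true, cond_true, ZMod.natCast_mod]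
        rw [Nat.cast_sub hd.le, show ((5 : ℕ) : K5) = 0 from ZMod.natCast_self 5]
        simp [sgn]
      · simp only [sg, hs, Bool.not_eq_true _ |>.mp hs, cond_false]
        simp [sgn]
    intro k x
    obtain ⟨i, b⟩ := x
    have hb : b = 0 ∨ b = 1 := by revert b; decide
    rcases hb with rfl | rfl
    · exact base k i
    · have e1 : h (i, (0 : ZMod 2) + 1) = ((h (i, 0)).1, (h (i, 0)).2 + 1) := ho.2 (i, 0)
      rw [zero_add] at e1
      rw [e1, fn_flip, Prod.mk.eta, base, ← Finset.sum_neg_distrib]
      refine Finset.sum_congr rfl fun l _ => ?_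
      rw [← mul_neg, ← fn_flip, zero_add]
  exact ⟨⟨(⟨g0, hg0⟩, u), h, ho, hrel⟩, by
    obtain ⟨g1, hg1, hgm⟩ := exists_prog_fast hok
    have : g0 = g1 := Subtype.ext (Equiv.ext fun v => Subtype.ext (lOf_inj
      ((hact v).trans (hg1 v).symm)))
    rw [← hgm, ← this], ea⟩

/-- the code type -/
abbrev C : Type := List ℕ × List ℕ

/-- the code relation -/
def RepH (y : cover) (x : C) : Prop :=
  colsOf ((((y : G × A28ˣ).1 : G) : Co0) : Equiv.Perm leechLattice) = x.1 ∧
    encA ((y : G × A28ˣ).2 : A28) = x.2

/-- product of codes -/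
def mulH (x y : C) : C := (mulM x.1 y.1, mulA x.2 y.2)

theorem rep_mulH {a b : cover} {x y : C} (ha : RepH a x) (hb : RepH b y) :
    RepH (a * b) (mulH x y) := by
  constructor
  · show colsOf ((((a : G × A28ˣ).1 : G) : Co0) * (((b : G × A28ˣ).1 : G) : Co0) :
      Equiv.Perm leechLattice) = mulM x.1 y.1
    rw [colsOf_mul (((a : G × A28ˣ).1 : G) : Co0).2, ha.1, hb.1]
  · show encA (((a : G × A28ˣ).2 : A28) * ((b : G × A28ˣ).2 : A28)) = mulA x.2 y.2
    rw [← mulA_enc, ha.2, hb.2]

/-- the code of the identity -/
def oneH : C := (oneM, encA 1)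

theorem rep_oneH : RepH 1 oneH := ⟨colsOf_one, rfl⟩

/-- a step of a straight-line program: a generator, the identity, or a product -/
def stepOK (T : List C) (k : ℕ) (s : ℕ × ℕ × ℕ) : Bool :=
  let e := T.getD k ([], [])
  bif Nat.beq s.1 0 then
    bif Nat.blt s.2.1 6 then
      eqW e.1 (fastMat (gProg s.2.1)) && eqW e.2 (aList.getD s.2.1 [])
    else eqW e.1 oneH.1 && eqW e.2 oneH.2
  else
    let a := T.getD s.2.1 ([], [])
    let b := T.getD s.2.2 ([], [])
    Nat.blt s.2.1 k && Nat.blt s.2.2 k && eqW e.1 (mulM a.1 b.1) && eqW e.2 (mulA a.2 b.2)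

/-- a program computing a table -/
def slpOK (T : List C) (P : List (ℕ × ℕ × ℕ)) : Bool :=
  Nat.beq T.length P.length && (List.range T.length).all fun k => stepOK T k (P.getD k (0, 0, 0))

theorem exists_of_slp {T : List C} {P : List (ℕ × ℕ × ℕ)} (h : slpOK T P = true) :
    ∀ {k : ℕ}, k < T.length → ∃ y, RepH y (T.getD k ([], [])) := by
  simp only [slpOK, Bool.and_eq_true, List.all_eq_true, List.mem_range] at h
  intro k
  induction k using Nat.strong_induction_on with
  | _ k ih =>
    intro hk
    have hs := h.2 k hk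
    rw [stepOK] at hs
    cases hb : Nat.beq (P.getD k (0, 0, 0)).1 0
    · simp only [hb, cond_false, Bool.and_eq_true, Nat.blt_eq, eqW_iff] at hs
      obtain ⟨⟨⟨ha, hc⟩, e1⟩, e2⟩ := hs
      obtain ⟨y, hy⟩ := ih _ ha (lt_trans ha hk)
      obtain ⟨y', hy'⟩ := ih _ hc (lt_trans hc hk)
      refine ⟨y * y', ?_⟩
      have := rep_mulH hy hy'
      exact ⟨this.1.trans e1.symm, this.2.trans e2.symm⟩
    · cases hj : Nat.blt (P.getD k (0, 0, 0)).2.1 6
      · simp only [hb, hj, cond_true, cond_false, Bool.and_eq_true, eqW_iff] at hs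
        exact ⟨1, rep_oneH.1.trans hs.1.symm, rep_oneH.2.trans hs.2.symm⟩
      · simp only [hb, hj, cond_true, Bool.and_eq_true, eqW_iff] at hs
        obtain ⟨y, h1, h2⟩ := exists_gen _ (Nat.blt_eq.mp hj)
        exact ⟨y, h1.trans hs.1.symm, h2.trans hs.2.symm⟩

/-- the code attached to a table -/
noncomputable def code (T : List C) (P : List (ℕ × ℕ × ℕ)) (h : slpOK T P = true) : Code cover C where
  rep := RepH
  mul := mulH
  one := oneH
  eqc x y := eqW x.1 y.1 && eqW x.2 y.2
  okc x := T.any fun t => eqW x.1 t.1 && eqW x.2 t.2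
  rep_mul := rep_mulH
  rep_one := rep_oneH
  eq_iff {a b x y} ha hb := by
    simp only [Bool.and_eq_true, eqW_iff, ← ha.1, ← hb.1, ← ha.2, ← hb.2]
    constructor
    · rintro ⟨h1, h2⟩
      exact Subtype.ext (Prod.ext (Subtype.ext (Subtype.ext (colsOf_injective
        (((a : G × A28ˣ).1 : G) : Co0).2 (((b : G × A28ˣ).1 : G) : Co0).2 h1)))
        (Units.ext (encA_inj h2)))
    · rintro rfl
      exact ⟨rfl, rfl⟩
  exists_rep {x} hx := by
    obtain ⟨y, hy, he⟩ := List.any_eq_true.1 hx
    simp only [Bool.and_eq_true, eqW_iff] at he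
    obtain ⟨k, hk, rfl⟩ := List.getElem_of_mem hy
    obtain ⟨y, hy⟩ := exists_of_slp h hk
    rw [List.getD_eq_getElem _ _ hk] at hy
    exact ⟨y, hy.1.trans he.1.symm, hy.2.trans he.2.symm⟩

/-- an action on packed rows -/
def appP (x : C) (v : ℕ) : ℕ := bif okR v then red5T x.2 v else v
where
  /-- a matrix applied to a column -/
  red5T (A : List ℕ) (v : ℕ) : ℕ :=
    pk (A.map fun r => ((List.range 28).map fun l => dg r l * dg v l).sum % 5)

theorem sum_range_map (f : ℕ → ℕ) (n : ℕ) :
    ((List.range n).map f).sum = ∑ l : Fin n, f l := by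
  rw [← List.sum_toFinset _ (List.nodup_range), List.toFinset_range, Fin.sum_univ_eq_sum_range f n]

attribute [local irreducible] dg p28 in
theorem appP_key (A : A28) (w : Fin 28 → K5) (k : Fin 28) :
    ((List.range 28).map fun l => dg (encR (A k)) l * dg (encR w) l).sum % 5 =
      (A.mulVec w k).val := by
  rw [sum_range_map, ← ZMod.val_natCast, Nat.cast_sum]
  show _ = (∑ l, A k l * w l).val
  refine congrArg ZMod.val (Finset.sum_congr rfl fun l _ => ?_)
  rw [dg_encR, dg_encR, Nat.cast_mul, ZMod.natCast_zmod_val, ZMod.natCast_zmod_val]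

theorem appP_enc (A : A28) (w : Fin 28 → K5) :
    appP.red5T (encA A) (encR w) = encR (A.mulVec w) := by
  show pk ((p28.map fun k => if h : k < 28 then encR (A ⟨k, h⟩) else 0).map _) = pk (p28.map _)
  rw [List.map_map]
  refine congrArg pk (List.map_congr_left fun k hk => ?_)
  have hk' : k < 28 := List.mem_range.1 hk
  rw [Function.comp_apply, dif_pos hk', dif_pos hk']
  exact appP_key A w ⟨k, hk'⟩

theorem okR_encR (w : Fin 28 → K5) : okR (encR w) = true := okR_iff.2 (by rw [decR_encR])

/-- the action -/
noncomputable def ptAct : PtAct cover ℕ where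
  act y v := bif okR v then encR (((y : G × A28ˣ).2 : A28).mulVec (decR v)) else v
  act_mul y z v := by
    cases hv : okR v
    · simp [hv]
    · simp only [cond_true, okR_encR, decR_encR, Matrix.mulVec_mulVec]
      rfl
  act_one v := by
    cases hv : okR v
    · simp
    · simp [okR_iff.1 hv]

theorem ptAct_app {y : cover} {x : C} (h : RepH y x) (v : ℕ) : ptAct.act y v = appP x v := by
  show (bif okR v then _ else v) = _
  cases hv : okR v
  · simp [appP, hv]
  · simp only [appP, hv, cond_true]
    rw [← h.2, ← appP_enc, okR_iff.1 hv]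

end CfsgLib.KnownB.Mult.HS
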