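import Cfsg.Agent.Lib.KnownB.Mult.Eval
import Mathlib

/-!
Matrices of size `28` over five elements packed by rows in base `1024`.
-/

set_option autoImplicit false

namespace CfsgLib.KnownB.Mult.HS

/-- scalars -/
abbrev K5 : Type := ZMod 5

/-- matrices -/
abbrev A28 : Type := Matrix (Fin 28) (Fin 28) K5

/-- a digit -/
def dg (v i : ℕ) : ℕ := v >>> (10 * i) % 1024

/-- packing -/
def pk : List ℕ → ℕ
  | [] => 0
  | a :: l => a + 1024 * pk l

theorem dg_pk : ∀ (l : List ℕ), (∀ a ∈ l, a < 1024) → ∀ i, dg (pk l) i = l.getD i 0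
  | [], _, i => by simp [pk, dg]
  | a :: l, h, 0 => by
    have := h a List.mem_cons_self
    simp [pk, dg, Nat.add_mul_mod_self_left, Nat.mod_eq_of_lt this]
  | a :: l, h, i + 1 => by
    have ha := h a List.mem_cons_self
    have e : pk (a :: l) >>> (10 * (i + 1)) = pk l >>> (10 * i) := by
      rw [mul_add, add_comm, Nat.shiftRight_add, pk]
      congr 1
      rw [Nat.shiftRight_eq_div_pow]
      omega
    rw [dg, e, List.getD_cons_succ]
    exact dg_pk l (fun b hb => h b (List.mem_cons_of_mem _ hb)) i

theorem pk_lin (a b : ℕ → ℕ) (c : ℕ) : ∀ l : List ℕ,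
    pk (l.map a) + c * pk (l.map b) = pk (l.map fun i => a i + c * b i)
  | [] => rfl
  | i :: l => by
    simp only [List.map_cons, pk, ← pk_lin a b c l]
    ring

/-- positions -/
def p28 : List ℕ := List.range 28

theorem getD_p28 {f : ℕ → ℕ} {i : ℕ} (h : i < 28) : (p28.map f).getD i 0 = f i := by
  simp [p28, h]

/-- weighted sum of rows -/
def comb (v : ℕ) : List ℕ → ℕ → ℕ
  | [], _ => 0
  | m :: ms, k => dg v k * m + comb v ms (k + 1)

/-- reduce the digits -/
def red5 (acc : ℕ) : ℕ := pk (p28.map fun i => dg acc i % 5)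

/-- a row times a matrix -/
def rowMul (B : List ℕ) (v : ℕ) : ℕ := red5 (comb v B 0)

/-- product of packed matrices -/
def mulA (A B : List ℕ) : List ℕ := A.map (rowMul B)

theorem comb_map (ps : List ℕ) (v : ℕ) (f : ℕ → ℕ → ℕ) : ∀ (ls : List ℕ) (k : ℕ) (a : ℕ → ℕ),
    pk (ps.map a) + comb v (ls.map fun j => pk (ps.map (f j))) k =
      pk (ps.map fun i => a i + ((List.range ls.length).map fun t => dg v (k + t) * f (ls.getD t 0) i).sum)
  | [], k, a => by simp [comb]
  | j :: ls, k, a => by
    rw [List.map_cons, comb, ← add_assoc, pk_lin, comb_map ps v f ls (k + 1)]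
    refine congrArg pk (List.map_congr_left fun i _ => ?_)
    rw [List.length_cons, List.range_succ_eq_map, List.map_cons, List.sum_cons, List.map_map]
    simp only [List.getD_cons_zero, add_zero, Function.comp_def, List.getD_cons_succ, ← add_assoc]
    congr 3
    funext t
    rw [show k + (t + 1) = k + 1 + t by omega]

/-- the code of a row -/
def encR (r : Fin 28 → K5) : ℕ := pk (p28.map fun i => if h : i < 28 then (r ⟨i, h⟩).val else 0)

/-- the row of a code -/
def decR (v : ℕ) : Fin 28 → K5 := fun i => (dg v (i : ℕ) : K5)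

theorem dg_encR (r : Fin 28 → K5) (i : Fin 28) : dg (encR r) (i : ℕ) = (r i).val := by
  rw [encR, dg_pk, getD_p28 i.2, dif_pos i.2]
  intro a ha
  obtain ⟨j, -, rfl⟩ := List.mem_map.1 ha
  split
  · exact lt_trans (ZMod.val_lt _) (by norm_num)
  · norm_num

theorem decR_encR (r : Fin 28 → K5) : decR (encR r) = r := by
  funext i
  rw [decR, dg_encR, ZMod.natCast_zmod_val]

theorem encR_inj {r s : Fin 28 → K5} (h : encR r = encR s) : r = s := by
  rw [← decR_encR r, h, decR_encR]

/-- canonical rows -/
def okR (v : ℕ) : Bool := Nat.beq (encR (decR v)) v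

theorem okR_iff {v : ℕ} : okR v = true ↔ encR (decR v) = v := by rw [okR, Nat.beq_eq]

/-- the code of a matrix -/
def encA (A : A28) : List ℕ := p28.map fun k => if h : k < 28 then encR (A ⟨k, h⟩) else 0

theorem getD_encA (A : A28) (k : Fin 28) : (encA A).getD (k : ℕ) 0 = encR (A k) := by
  rw [encA, getD_p28 k.2, dif_pos k.2]

theorem encA_inj {A B : A28} (h : encA A = encA B) : A = B := by
  funext k
  exact encR_inj (by rw [← getD_encA, h, getD_encA])

theorem rowMul_enc (B : A28) (r : Fin 28 → K5) :
    rowMul (encA B) (encR r) = encR (Matrix.vecMul r B) := by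
  let f : ℕ → ℕ → ℕ := fun j i => if h : j < 28 ∧ i < 28 then (B ⟨j, h.1⟩ ⟨i, h.2⟩).val else 0
  have e : encA B = p28.map fun j => pk (p28.map (f j)) := by
    refine List.map_congr_left fun j hj => ?_
    have hj' : j < 28 := List.mem_range.1 hj
    rw [dif_pos hj', encR]
    refine congrArg pk (List.map_congr_left fun i hi => ?_)
    have hi' : i < 28 := List.mem_range.1 hi
    simp only [f, dif_pos hi', dif_pos (And.intro hj' hi')]
  have h0 : pk (p28.map fun _ => 0) = 0 := by decide
  have h := comb_map p28 (encR r) f p28 0 (fun _ => 0)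
  rw [h0, zero_add] at h
  rw [rowMul, red5, e, h]
  conv_rhs => rw [encR]
  refine congrArg pk (List.map_congr_left fun i hi => ?_)
  have hi' : i < 28 := List.mem_range.1 hi
  have hsum : ∀ i, i < 28 → 0 + ((List.range p28.length).map fun t => dg (encR r) (0 + t) * f (p28.getD t 0) i).sum =
      ∑ k : Fin 28, (r k).val * (if h : i < 28 then (B k ⟨i, h⟩).val else 0) := fun i hi => by
    rw [zero_add, ← List.sum_toFinset _ (List.nodup_range), List.toFinset_range]
    rw [show p28.length = 28 from rfl, ← Fin.sum_univ_eq_sum_range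
      (fun t => dg (encR r) (0 + t) * f (p28.getD t 0) i) 28]
    refine Finset.sum_congr rfl fun t _ => ?_
    rw [zero_add, dg_encR, dif_pos hi]
    simp only [p28, f]
    simp [hi]
  rw [dif_pos hi', dg_pk, getD_p28 hi', hsum i hi']
  · rw [← ZMod.val_natCast, Nat.cast_sum]
    refine congrArg ZMod.val ?_
    simp only [Matrix.vecMul, dotProduct, dif_pos hi', Nat.cast_mul, ZMod.natCast_zmod_val]
  · intro a ha
    obtain ⟨i, hi, rfl⟩ := List.mem_map.1 ha
    rw [hsum i (List.mem_range.1 hi)]
    calc (∑ k : Fin 28, (r k).val * (if h : i < 28 then (B k ⟨i, h⟩).val else 0))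
        ≤ ∑ _k : Fin 28, 4 * 4 := by
          gcongr with k
          · exact Nat.le_of_lt_succ (ZMod.val_lt _)
          · split
            · exact Nat.le_of_lt_succ (ZMod.val_lt _)
            · omega
      _ < 1024 := by simp

theorem mulA_enc (A B : A28) : mulA (encA A) (encA B) = encA (A * B) := by
  show List.map (rowMul (encA B)) (p28.map _) = p28.map _
  rw [List.map_map]
  refine List.map_congr_left fun k hk => ?_
  have hk' : k < 28 := List.mem_range.1 hk
  rw [Function.comp_apply, dif_pos hk', dif_pos hk', rowMul_enc]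
  rfl

end CfsgLib.KnownB.Mult.HS
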