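import Cfsg.Agent.Lib.KnownB.Mult.HS.Data
import Cfsg.Agent.Lib.KnownB.Mult.HS.Rows
import Cfsg.Agent.Lib.Spor.HSConfig
import Cfsg.Agent.Lib.Spor.ConwaySimple

/-!
The double cover of the Higman-Sims group: an element together with a matrix on a subspace of signed
functions on `352` vectors, induced by a signed permutation lying over the element.
-/

set_option autoImplicit false
set_option maxRecDepth 100000
set_option Elab.async false

namespace CfsgLib.KnownB.Mult.HS

open Cfsg CfsgLib.Spor CfsgLib.Spor.Config CfsgLib.Spor.HSConfig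

instance : Fact (Nat.Prime 5) := ⟨by norm_num⟩

/-- the group -/
abbrev G : Type := ↥pairStab

instance : Finite G := Nat.finite_of_card_ne_zero (by rw [ConwaySimple.natCard_hsStd]; norm_num)

/-- signed vectors -/
abbrev SV : Type := Fin 352 × ZMod 2

theorem vec_check : (vecList.all fun l => decide (l.length = 24) && inLeechB l &&
    decide (dotL l l = 32)) = true := by decide +kernel

theorem vec_length : vecList.length = 352 := by decide +kernel

theorem vec_exists (i : Fin 352) : ∃ v : leechLattice,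
    lOf (v : GolayPt → ℤ) = vecList.getD i [] ∧ sqNorm (v : GolayPt → ℤ) = 32 := by
  have hi : (i : ℕ) < vecList.length := by rw [vec_length]; exact i.2
  rw [List.getD_eq_getElem _ _ hi]
  have h := List.all_eq_true.1 vec_check _ (List.getElem_mem hi)
  simp only [Bool.and_eq_true, decide_eq_true_eq] at h
  obtain ⟨⟨h0, h1⟩, h2⟩ := h
  have e := lOf_vOf h0
  exact ⟨⟨vOf vecList[(i : ℕ)], mem_leech_of_inLeechB (by rw [e]; exact h1)⟩, e,
    by rw [← dot_self, dotInt_eq_dotL, e, h2]⟩

/-- the vectors -/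
noncomputable def vec (i : Fin 352) : leechLattice := (vec_exists i).choose

theorem lOf_vec (i : Fin 352) : lOf ((vec i : leechLattice) : GolayPt → ℤ) = vecList.getD i [] :=
  (vec_exists i).choose_spec.1

theorem norm_vec (i : Fin 352) : sqNorm ((vec i : leechLattice) : GolayPt → ℤ) = 32 :=
  (vec_exists i).choose_spec.2

theorem vecList_nodup : (vecList.map encL).Nodup := by decide +kernel

theorem vec_injective : Function.Injective vec := by
  intro i j h
  have hl : (vecList.map encL).length = 352 := by rw [List.length_map, vec_length]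
  have hi : (i : ℕ) < vecList.length := by rw [vec_length]; exact i.2
  have hj : (j : ℕ) < vecList.length := by rw [vec_length]; exact j.2
  have e : vecList.getD i [] = vecList.getD j [] := by rw [← lOf_vec, ← lOf_vec, h]
  rw [List.getD_eq_getElem _ _ hi, List.getD_eq_getElem _ _ hj] at e
  refine Fin.ext ((vecList_nodup.getElem_inj_iff (hi := hl.symm ▸ i.2) (hj := hl.symm ▸ j.2)).1 ?_)
  rw [List.getElem_map, List.getElem_map, e]

/-- a value of the subspace basis -/
def fval (k i : ℕ) : K5 := (dg (fPack.getD k 0) i : K5)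

/-- the subspace basis on signed vectors -/
def fn (k : Fin 28) (x : SV) : K5 := if x.2 = 0 then fval k x.1 else -fval k x.1

theorem fn_flip (k : Fin 28) (i : Fin 352) (b : ZMod 2) : fn k (i, b + 1) = -fn k (i, b) := by
  have hb : b = 0 ∨ b = 1 := by revert b; decide
  have h1 : (1 : ZMod 2) + 1 = 0 := by decide
  rcases hb with rfl | rfl <;> simp [fn, h1]

attribute [local irreducible] fn fval fPack vecList vecPack pivList treeList

/-- lying over an element -/
def Over (g : G) (h : Equiv.Perm SV) : Prop :=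
  (∀ x, vec (h x).1 = (g : Co0) • vec x.1) ∧ ∀ x : SV, h (x.1, x.2 + 1) = ((h x).1, (h x).2 + 1)

/-- the matrix induced on the subspace -/
def Rel (A : A28) (h : Equiv.Perm SV) : Prop := ∀ k x, fn k (h x) = ∑ l, A k l * fn l x

theorem Over.mul {g g' : G} {h h' : Equiv.Perm SV} (o : Over g h) (o' : Over g' h') :
    Over (g * g') (h * h') :=
  ⟨fun x => by rw [Equiv.Perm.mul_apply, o.1, o'.1, Subgroup.coe_mul, mul_smul],
    fun x => by rw [Equiv.Perm.mul_apply, o'.2, o.2]; rfl⟩

theorem Rel.mul {A A' : A28} {h h' : Equiv.Perm SV} (r : Rel A h) (r' : Rel A' h') :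
    Rel (A * A') (h * h') := by
  intro k x
  show fn k (h (h' x)) = _
  refine (r k (h' x)).trans ?_
  rw [Finset.sum_congr rfl fun l _ => congrArg (A k l * ·) (r' l x)]
  simp only [Finset.mul_sum, Matrix.mul_apply, Finset.sum_mul, mul_assoc]
  exact Finset.sum_comm

/-- the cover as a monoid -/
def coverM : Submonoid (G × A28ˣ) where
  carrier := {y | ∃ h, Over y.1 h ∧ Rel y.2 h}
  one_mem' := ⟨1, ⟨fun x => (one_smul Co0 _).symm, fun x => rfl⟩, fun k x => by
    simp [Matrix.one_apply]⟩
  mul_mem' := by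
    rintro y z ⟨h, o, r⟩ ⟨h', o', r'⟩
    exact ⟨h * h', Over.mul o o', Rel.mul r r'⟩

/-- the cover -/
def cover : Subgroup (G × A28ˣ) :=
  { coverM with
    inv_mem' := by
      intro x hx
      have h : x⁻¹ = x ^ (orderOf x - 1) := by
        rw [inv_eq_iff_mul_eq_one, ← pow_succ', Nat.sub_add_cancel (orderOf_pos x), pow_orderOf_eq_one]
      rw [h]
      exact coverM.pow_mem hx _ }

/-- the projection -/
def proj : cover →* G := (MonoidHom.fst G A28ˣ).comp cover.subtype

theorem piv_check : ((List.range 28).all fun k => (List.range 28).all fun l =>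
    Nat.beq (dg (fPack.getD k 0) (pivList.getD l 0)) (if k = l then 1 else 0) &&
      Nat.blt (pivList.getD l 0) 352) = true := by decide +kernel

/-- a pivot -/
def piv (l : Fin 28) : Fin 352 := ⟨pivList.getD l 0, by
  have h := piv_check
  simp only [List.all_eq_true, List.mem_range, Bool.and_eq_true, Nat.blt_eq] at h
  exact (h l l.2 l l.2).2⟩

theorem fval_piv (k l : Fin 28) : fval k (piv l) = if k = l then 1 else 0 := by
  have h := piv_check
  simp only [List.all_eq_true, List.mem_range, Bool.and_eq_true, Nat.beq_eq] at h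
  rw [fval, show ((piv l : Fin 352) : ℕ) = pivList.getD l 0 from rfl, (h k k.2 l l.2).1]
  by_cases e : k = l
  · simp [e]
  · simp [e, show ¬ (k : ℕ) = (l : ℕ) from fun h' => e (Fin.ext h')]

/-- a sign -/
def sgn (b : ZMod 2) : K5 := if b = 0 then 1 else -1

theorem fn_eq (k : Fin 28) (i : Fin 352) (b : ZMod 2) : fn k (i, b) = sgn b * fval k i := by
  unfold fn sgn
  split <;> simp

theorem sgn_inj : ∀ b c : ZMod 2, sgn b = sgn c → b = c := by decide

theorem tree_check : (treeList.length == 28 && (List.range 28).all fun j =>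
    let e := treeList.getD j (0, 0, 0)
    Nat.blt e.1 28 && Nat.blt e.2.2 352 && (Nat.beq j 0 || (Nat.blt e.2.1 j &&
      !Nat.beq (dg (fPack.getD e.1 0) e.2.2 % 5) 0 &&
      !Nat.beq (dg (fPack.getD (treeList.getD e.2.1 (0, 0, 0)).1 0) e.2.2 % 5) 0))) = true := by
  decide +kernel

theorem tree_all : ∀ k : Fin 28, ∃ j : Fin 28, (treeList.getD (j : ℕ) (0, 0, 0)).1 = (k : ℕ) := by
  decide +kernel

theorem fval_ne {k i : ℕ} (h : Nat.beq (dg (fPack.getD k 0) i % 5) 0 = false) : fval k i ≠ 0 := by
  intro e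
  rw [fval, ZMod.natCast_eq_zero_iff] at e
  rw [Nat.mod_eq_zero_of_dvd e] at h
  exact Bool.noConfusion h

theorem ker_pm {y : cover} (hy : y ∈ proj.ker) :
    ((y : G × A28ˣ).2 : A28) = 1 ∨ ((y : G × A28ˣ).2 : A28) = -1 := by
  obtain ⟨h, ⟨ho, -⟩, hr⟩ := y.2
  have hg : (y : G × A28ˣ).1 = 1 := hy
  have hfst : ∀ x, (h x).1 = x.1 := fun x => vec_injective (by rw [ho, hg]; exact one_smul _ _)
  set s : Fin 352 → ZMod 2 := fun i => (h (i, 0)).2 with hs
  have hh : ∀ i, h (i, 0) = (i, s i) := fun i => Prod.ext (hfst _) rfl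
  set A : A28 := ((y : G × A28ˣ).2 : A28) with hA
  have hv : ∀ (k : Fin 28) (i : Fin 352), sgn (s i) * fval k i = ∑ l : Fin 28, A k l * fval l i := by
    intro k i
    have := hr k (i, 0)
    rw [hh, fn_eq] at this
    simpa [fn_eq, sgn] using this
  have hent : ∀ k l, A k l = if k = l then sgn (s (piv l)) else 0 := by
    intro k l
    have := hv k (piv l)
    simp only [fval_piv, mul_ite, mul_one, mul_zero, Finset.sum_ite_eq', Finset.mem_univ,
      if_true] at this
    exact this.symm
  have hrow : ∀ (k : Fin 28) (i : Fin 352), fval k i ≠ 0 → s i = s (piv k) := by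
    intro k i hne
    refine sgn_inj _ _ (mul_right_cancel₀ hne ?_)
    rw [hv, Finset.sum_eq_single k]
    · rw [hent, if_pos rfl]
    · intro l _ hl
      rw [hent, if_neg (Ne.symm hl), zero_mul]
    · simp
  have ht := tree_check
  simp only [Bool.and_eq_true, List.all_eq_true, List.mem_range, Nat.blt_eq, Bool.or_eq_true,
    Nat.beq_eq, Bool.not_eq_true'] at ht
  have key : ∀ j, (hj : j < 28) → s (piv ⟨_, (ht.2 j hj).1.1⟩) = s (piv ⟨_, (ht.2 0 (by norm_num)).1.1⟩) := by
    intro j
    induction j using Nat.strong_induction_on with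
    | _ j ih =>
      intro hj
      rcases (ht.2 j hj).2 with rfl | ⟨⟨hp, n1⟩, n2⟩
      · rfl
      · rw [← ih _ hp (hp.trans hj),
          ← hrow ⟨_, (ht.2 j hj).1.1⟩ ⟨_, (ht.2 j hj).1.2⟩ (fval_ne n1),
          ← hrow ⟨_, (ht.2 _ (hp.trans hj)).1.1⟩ ⟨_, (ht.2 j hj).1.2⟩ (fval_ne n2)]
  have hall : ∀ k, s (piv k) = s (piv ⟨_, (ht.2 0 (by norm_num)).1.1⟩) := fun k => by
    obtain ⟨j, hj⟩ := tree_all k
    rw [← key j j.2]
    exact congrArg (fun l => s (piv l)) (Fin.ext hj.symm)
  have hb : ∀ b : ZMod 2, b = 0 ∨ b = 1 := by decide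
  rcases hb (s (piv ⟨_, (ht.2 0 (by norm_num)).1.1⟩)) with e | e
  · left
    ext k l
    rw [hent, hall, e, Matrix.one_apply]
    rfl
  · right
    ext k l
    rw [hent, hall, e, Matrix.neg_apply, Matrix.one_apply]
    split <;> simp [sgn]

theorem card_ker_le : Nat.card proj.ker ≤ 2 := by
  classical
  have hinj : Function.Injective fun y : proj.ker =>
      decide ((((y : cover) : G × A28ˣ).2 : A28) = 1) := by
    intro y z e
    simp only [decide_eq_decide] at e
    have hy : ((y : cover) : G × A28ˣ).1 = 1 := y.2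
    have hz : ((z : cover) : G × A28ˣ).1 = 1 := z.2
    refine Subtype.ext (Subtype.ext (Prod.ext (hy.trans hz.symm) (Units.ext ?_)))
    rcases ker_pm y.2 with a | a <;> rcases ker_pm z.2 with b | b
    · rw [a, b]
    · rw [a, e.1 a]
    · rw [b, e.2 b]
    · rw [a, b]
  simpa using Nat.card_le_card_of_injective _ hinj

theorem ker_le_center : proj.ker ≤ Subgroup.center cover := by
  intro z hz
  rw [Subgroup.mem_center_iff]
  intro y
  have h1 : (z : G × A28ˣ).1 = 1 := hz
  refine Subtype.ext (Prod.ext ?_ (Units.ext ?_))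
  · show (y : G × A28ˣ).1 * (z : G × A28ˣ).1 = (z : G × A28ˣ).1 * (y : G × A28ˣ).1
    rw [h1, mul_one, one_mul]
  · show ((y : G × A28ˣ).2 : A28) * ((z : G × A28ˣ).2 : A28) = _
    rcases ker_pm hz with e | e
    · rw [Subgroup.coe_mul, Prod.snd_mul, Units.val_mul, e, mul_one, one_mul]
    · rw [Subgroup.coe_mul, Prod.snd_mul, Units.val_mul, e, mul_neg, mul_one, neg_mul, one_mul]

end CfsgLib.KnownB.Mult.HS
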