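import Cfsg.Agent.Lib.KnownB.Mult.HS.P2Rel
import Cfsg.Agent.Lib.KnownB.Mult.HS.P2Rows

/-! Certificate at 2 for the double cover of the Higman-Sims group. -/

set_option autoImplicit false
set_option maxRecDepth 100000
set_option Elab.async false

namespace CfsgLib.KnownB.Mult.HS.P2

open CfsgLib.KnownB.Mult

theorem gen : cert.genOK K = true := by decide +kernel

theorem rel : cert.relOK K = true := by
  refine Cert.relOK_of K cert (all_of_pieces _ 12 5 _ (fun i hi => ?_) (by decide +kernel)) rel_conj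
  interval_cases i
  · exact rel0
  · exact rel1
  · exact rel2
  · exact rel3
  · exact rel4

theorem pcs : cert.pcOK 2 = true := by decide +kernel

theorem rows : cert.rowsOK K 2 = true := by
  refine Cert.rowsOK_of K cert 2 (all_of_pieces _ 7 8 _ (fun i hi => ?_) (by decide +kernel))
  interval_cases i
  · exact row0
  · exact row1
  · exact row2
  · exact row3
  · exact row4
  · exact row5
  · exact row6
  · exact row7


theorem target : cert.targetOK 2 = true := by decide +kernel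

theorem core : cert.Core K 2 := ⟨gen, rel, pcs, rows, target⟩

/-- transversal levels of the Sylow subgroup -/
def levels : List (ℕ × List (List ℕ)) := [
  (1099511627776, [[], [0], [1], [2], [3], [4], [5], [6], [7], [8], [1, 0], [2, 0], [3, 0], [4, 0], [5, 0], [7, 0], [8, 0], [2, 1], [3, 1], [4, 1], [7, 1], [8, 1], [4, 2], [5, 2], [6, 2], [8, 2], [0, 3], [2, 3], [5, 3], [6, 3], [1, 4], [2, 4], [3, 4], [5, 4], [7, 4], [8, 4], [1, 5], [7, 5], [8, 5], [3, 6], [0, 7], [8, 7], [2, 1, 0], [5, 1, 0], [7, 1, 0], [8, 1, 0], [0, 2, 0], [5, 2, 0], [2, 3, 0], [5, 3, 0], [6, 3, 0], [2, 4, 0], [7, 4, 0], [3, 5, 0], [0, 2, 1], [1, 2, 1], [4, 2, 1], [1, 3, 1], [4, 3, 1], [2, 4, 1], [8, 7, 1], [8, 5, 2], [4, 6, 3], [8, 2, 1, 0]]),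
  (1, [[], [9], [6, 4, 0], [5, 6, 1], [6, 0, 4], [2, 3, 5], [4, 1, 5, 0], [4, 1, 0, 1], [3, 7, 2, 1], [7, 3, 3, 1], [4, 0, 5, 1], [0, 4, 5, 1], [6, 5, 3, 2], [3, 0, 5, 2], [6, 1, 2, 3], [7, 4, 5, 1, 0]])]

theorem levels_ok : Cert.levelsOK K cert appP Nat.beq levels [] = true := by decide +kernel

end CfsgLib.KnownB.Mult.HS.P2
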