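import Cfsg.Agent.Lib.KnownB.Mult.HS.P2Table

/-! Data of the certificate at 2 for the double cover of the Higman-Sims group. -/

set_option autoImplicit false
set_option maxRecDepth 100000
set_option Elab.async false

namespace CfsgLib.KnownB.Mult.HS.P2

open CfsgLib.KnownB.Mult

/-- the certificate -/
def cert : Cert C where
  n := 10
  σ := [tab.getD 167 ([], []),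
    tab.getD 45 ([], []),
    tab.getD 173 ([], []),
    tab.getD 160 ([], []),
    tab.getD 170 ([], []),
    tab.getD 162 ([], []),
    tab.getD 169 ([], []),
    tab.getD 159 ([], []),
    tab.getD 172 ([], []),
    tab.getD 34 ([], [])]
  rules := [([0, 0], [9]),
    ([1, 1], []),
    ([2, 2], [5]),
    ([3, 3], [5, 6, 7, 9]),
    ([4, 4], [8, 9]),
    ([5, 5], []),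
    ([6, 6], [8]),
    ([7, 7], []),
    ([8, 8], []),
    ([9, 9], []),
    ([1, 0], [0, 1, 2, 3, 5, 6, 8]),
    ([2, 0], [0, 2, 4, 6, 8, 9]),
    ([3, 0], [0, 3, 4, 6]),
    ([4, 0], [0, 4, 9]),
    ([5, 0], [0, 5, 6, 9]),
    ([6, 0], [0, 6, 8]),
    ([7, 0], [0, 7, 8]),
    ([8, 0], [0, 8]),
    ([9, 0], [0, 9]),
    ([2, 1], [1, 2, 5, 6, 7, 8]),
    ([3, 1], [1, 3, 5, 6, 7, 8, 9]),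
    ([4, 1], [1, 4, 7, 9]),
    ([5, 1], [1, 5, 7, 9]),
    ([6, 1], [1, 6, 7, 9]),
    ([7, 1], [1, 7]),
    ([8, 1], [1, 8]),
    ([9, 1], [1, 9]),
    ([3, 2], [2, 3, 6, 7, 8]),
    ([4, 2], [2, 4, 6, 7, 8, 9]),
    ([5, 2], [2, 5]),
    ([6, 2], [2, 6, 7, 8, 9]),
    ([7, 2], [2, 7, 8]),
    ([8, 2], [2, 8]),
    ([9, 2], [2, 9]),
    ([4, 3], [3, 4, 6, 7, 9]),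
    ([5, 3], [3, 5, 7, 8, 9]),
    ([6, 3], [3, 6, 7, 9]),
    ([7, 3], [3, 7, 8]),
    ([8, 3], [3, 8]),
    ([9, 3], [3, 9]),
    ([5, 4], [4, 5, 7, 8, 9]),
    ([6, 4], [4, 6, 8]),
    ([7, 4], [4, 7]),
    ([8, 4], [4, 8]),
    ([9, 4], [4, 9]),
    ([6, 5], [5, 6, 8]),
    ([7, 5], [5, 7]),
    ([8, 5], [5, 8]),
    ([9, 5], [5, 9]),
    ([7, 6], [6, 7]),
    ([8, 6], [6, 8]),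
    ([9, 6], [6, 9]),
    ([8, 7], [7, 8]),
    ([9, 7], [7, 9]),
    ([9, 8], [8, 9])]
  conjs := [(tab.getD 177 ([], []), [8], [8]),
    (tab.getD 177 ([], []), [9], [9]),
    (tab.getD 177 ([], []), [0, 6], [0, 9]),
    (tab.getD 177 ([], []), [4, 7], [0, 4]),
    (tab.getD 177 ([], []), [6, 7], [6, 7, 9]),
    (tab.getD 177 ([], []), [0, 1, 3], [0, 1, 3]),
    (tab.getD 177 ([], []), [0, 1, 2, 5], [2, 3, 8]),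
    (tab.getD 198 ([], []), [1, 7], [1]),
    (tab.getD 198 ([], []), [5, 6], [8]),
    (tab.getD 198 ([], []), [8], [7, 8]),
    (tab.getD 198 ([], []), [9], [7, 9]),
    (tab.getD 198 ([], []), [1], [5, 6, 7]),
    (tab.getD 198 ([], []), [1, 2, 3, 4, 5], [4]),
    (tab.getD 198 ([], []), [2, 4, 5], [1, 2, 3])]
  rows := [(.ovl [0] 0 [], [0, 0, 0, 0, 0, 0, 0, 0, 0, 0, 0, 0, 0, 0, 0, 0, 0, 0, 1]),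
    (.ovl [1] 0 [], [0, 0, 1, 1, 1, 0, 0, 0, 1, 1, 0, 1, 1, 0, 1, 1, 0, 1, 0, 0, 0, 0, 0, 0, 0, 0, 1, 1, 0, 1, 1, 0, 1, 0, 1, 1, 1, 1, 1, 1, 0, 0, 1, 1, 0, 1, 0, 0, 1, 1, 0, 1, 0, 1, 0]),
    (.ovl [2] 0 [], [0, 0, 0, 0, 1, 0, 1, 0, 1, 0, 0, 0, 0, 1, 0, 1, 0, 1, 1, 0, 0, 0, 0, 0, 0, 0, 0, 0, 0, 0, 0, 0, 0, 1, 0, 0, 0, 0, 0, 0, 0, 1, 0, 1, 1, 0, 0, 0, 0, 0, 0, 0, 0, 0, 1]),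
    (.ovl [3] 0 [], [0, 0, 0, 0, 1, 0, 1, 0, 0, 1, 0, 0, 0, 1, 0, 1, 0, 0, 0, 0, 0, 0, 0, 0, 0, 0, 0, 0, 0, 0, 0, 0, 0, 0, 0, 0, 0, 0, 0, 1, 0, 1, 0, 0, 0, 0, 0, 0, 0, 0, 1, 1, 0, 0, 0]),
    (.ovl [4] 0 [], [0, 0, 0, 0, 0, 0, 0, 0, 0, 1, 0, 0, 0, 0, 0, 0, 0, 0, 1, 0, 0, 0, 0, 0, 0, 0, 0, 0, 0, 0, 0, 0, 0, 0, 0, 0, 0, 0, 0, 0, 0, 0, 0, 0, 1]),
    (.ovl [5] 0 [], [0, 0, 0, 0, 0, 0, 1, 0, 1, 1, 0, 0, 0, 0, 0, 1, 0, 0, 1, 0, 0, 0, 0, 0, 0, 0, 0, 0, 0, 0, 0, 0, 0, 0, 0, 0, 0, 0, 0, 0, 0, 0, 0, 0, 0, 0, 0, 0, 1, 0, 0, 1]),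
    (.ovl [6] 0 [], [0, 0, 0, 0, 0, 0, 0, 0, 1, 0, 0, 0, 0, 0, 0, 0, 0, 1, 0, 0, 0, 0, 0, 0, 0, 0, 0, 0, 0, 0, 0, 0, 0, 0, 0, 0, 0, 0, 0, 0, 0, 0, 0, 0, 0, 0, 0, 0, 0, 0, 0, 1, 0, 0, 0]),
    (.ovl [7] 0 [], [0, 0, 0, 0, 0, 0, 0, 0, 1, 0, 0, 0, 0, 0, 0, 0, 0, 1, 0, 0, 0, 0, 0, 0, 0, 0, 0, 0, 0, 0, 0, 0, 0, 0, 0, 0, 0, 0, 0, 0, 0, 0, 0, 0, 0, 0, 0, 0, 0, 0, 0, 0, 0, 1, 0]),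
    (.ovl [8] 0 [], [0, 0, 0, 0, 0, 0, 0, 0, 0, 0, 0, 0, 0, 0, 0, 0, 0, 0, 0, 0, 0, 0, 0, 0, 0, 0, 0, 0, 0, 0, 0, 0, 0, 0, 0, 0, 0, 0, 0, 0, 0, 0, 0, 0, 0, 0, 0, 0, 0, 0, 0, 0, 0, 0, 1]),
    (.ovl [2] 1 [], [0, 0, 0, 0, 0, 1, 1, 0, 0, 1, 0, 0, 0, 0, 0, 0, 0, 0, 0, 0, 0, 0, 1, 1, 1, 1, 0, 0, 0, 0, 0, 0, 0, 0, 0, 0, 0, 0, 0, 0, 0, 0, 0, 0, 0, 1, 1, 1, 0, 0, 0, 1, 1, 1]),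
    (.ovl [3] 1 [], [0, 0, 0, 0, 0, 1, 1, 0, 0, 0, 0, 0, 0, 0, 0, 0, 0, 0, 0, 0, 0, 0, 1, 1, 1, 1, 1, 0, 0, 0, 0, 0, 0, 0, 0, 0, 0, 0, 0, 0, 0, 0, 0, 0, 0, 1, 1, 1, 1, 0, 0, 0, 1, 0, 1]),
    (.ovl [4] 1 [], [0, 0, 0, 0, 0, 0, 0, 1, 0, 1, 0, 0, 0, 0, 0, 0, 0, 0, 0, 0, 0, 0, 0, 0, 1, 0, 1, 0, 0, 0, 0, 0, 0, 0, 0, 0, 0, 0, 0, 0, 0, 0, 0, 0, 0, 0, 0, 0, 0, 0, 0, 0, 0, 1]),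
    (.ovl [2] 2 [], [0, 0, 0, 0, 0, 0, 0, 0, 0, 0, 0, 0, 0, 0, 0, 0, 0, 0, 0, 0, 0, 0, 0, 0, 0, 0, 0, 0, 0, 1]),
    (.ovl [3] 2 [], [0, 0, 0, 0, 0, 0, 1, 0, 1, 1, 0, 0, 0, 0, 0, 0, 0, 0, 0, 0, 0, 0, 0, 0, 0, 0, 0, 0, 0, 0, 1, 1, 1, 0, 0, 1, 0, 0, 0, 0, 0, 0, 0, 0, 0, 0, 0, 0, 0, 1, 1, 0, 0, 0, 0]),
    (.ovl [4] 2 [], [0, 0, 0, 0, 0, 0, 1, 0, 1, 0, 0, 0, 0, 0, 0, 0, 0, 0, 0, 0, 0, 0, 0, 0, 0, 0, 0, 0, 0, 0, 1, 1, 1, 1, 0, 0, 0, 0, 0, 0, 1, 0, 0, 0, 0, 0, 0, 0, 0, 1, 1, 1, 0, 0, 1]),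
    (.ovl [6] 2 [], [0, 0, 0, 0, 0, 0, 0, 1, 1, 1, 0, 0, 0, 0, 0, 0, 0, 0, 0, 0, 0, 0, 0, 0, 0, 0, 0, 0, 0, 0, 0, 1, 1, 1, 0, 0, 0, 0, 0, 0, 0, 0, 0, 0, 0, 1, 0, 0, 0, 0, 0, 0, 1, 1, 0]),
    (.ovl [7] 2 [], [0, 0, 0, 0, 0, 0, 0, 0, 1, 0, 0, 0, 0, 0, 0, 0, 0, 0, 0, 0, 0, 0, 0, 0, 0, 0, 0, 0, 0, 0, 0, 0, 1, 0, 0, 0, 0, 0, 0, 0, 0, 0, 0, 0, 0, 0, 1]),
    (.ovl [8] 2 [], [0, 0, 0, 0, 0, 0, 0, 0, 0, 0, 0, 0, 0, 0, 0, 0, 0, 0, 0, 0, 0, 0, 0, 0, 0, 0, 0, 0, 0, 0, 0, 0, 0, 0, 0, 0, 0, 0, 0, 0, 0, 0, 0, 0, 0, 0, 0, 1]),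
    (.ovl [9] 2 [], [0, 0, 0, 0, 0, 0, 0, 0, 0, 0, 0, 0, 0, 0, 0, 0, 0, 0, 0, 0, 0, 0, 0, 0, 0, 0, 0, 0, 0, 0, 0, 0, 0, 0, 0, 0, 0, 0, 0, 0, 0, 0, 0, 0, 0, 0, 0, 0, 1]),
    (.ovl [3] 3 [], [0, 0, 0, 0, 0, 0, 0, 1, 1, 1, 0, 0, 0, 0, 0, 0, 0, 0, 0, 0, 0, 0, 0, 0, 0, 0, 0, 0, 0, 0, 0, 0, 0, 0, 0, 1, 1, 1, 0, 1, 0, 0, 0, 0, 0, 0, 0, 0, 0, 1, 1, 1, 0, 1]),
    (.ovl [4] 3 [], [0, 0, 0, 0, 0, 0, 1, 0, 0, 0, 0, 0, 0, 0, 0, 0, 0, 0, 0, 0, 0, 0, 0, 0, 0, 0, 0, 0, 0, 0, 0, 0, 0, 0, 0, 0, 1, 1, 0, 1, 1, 1, 1, 0, 1, 0, 0, 0, 0, 0, 0, 0, 1, 0, 1]),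
    (.ovl [5] 3 [], [0, 0, 0, 0, 0, 0, 0, 1, 0, 1, 0, 0, 0, 0, 0, 0, 0, 0, 0, 0, 0, 0, 0, 0, 0, 0, 0, 0, 0, 0, 0, 0, 0, 0, 0, 0, 0, 1, 1, 1, 0, 0, 0, 0, 0, 1, 1, 0, 1, 0, 0, 0, 0, 1, 1]),
    (.ovl [6] 3 [], [0, 0, 0, 0, 0, 0, 0, 1, 0, 1, 0, 0, 0, 0, 0, 0, 0, 0, 0, 0, 0, 0, 0, 0, 0, 0, 0, 0, 0, 0, 0, 0, 0, 0, 0, 0, 0, 1, 0, 1, 0, 0, 0, 0, 0, 1, 0, 0, 0, 1, 1, 1, 1, 1]),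
    (.ovl [7] 3 [], [0, 0, 0, 0, 0, 0, 0, 0, 1, 0, 0, 0, 0, 0, 0, 0, 0, 0, 0, 0, 0, 0, 0, 0, 0, 0, 0, 0, 0, 0, 0, 0, 0, 0, 0, 0, 0, 0, 1, 0, 0, 0, 0, 0, 0, 0, 1, 0, 0, 1, 0, 0, 0, 1, 0]),
    (.ovl [8] 3 [], [0, 0, 0, 0, 0, 0, 0, 0, 0, 0, 0, 0, 0, 0, 0, 0, 0, 0, 0, 0, 0, 0, 0, 0, 0, 0, 0, 0, 0, 0, 0, 0, 0, 0, 0, 0, 0, 0, 0, 0, 0, 0, 0, 0, 0, 0, 0, 1, 0, 0, 1, 0, 1, 0, 1]),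
    (.ovl [4] 4 [], [0, 0, 0, 0, 0, 0, 0, 0, 0, 0, 0, 0, 0, 0, 0, 0, 0, 0, 0, 0, 0, 0, 0, 0, 0, 0, 0, 0, 0, 0, 0, 0, 0, 0, 0, 0, 0, 0, 0, 0, 0, 0, 0, 1, 1]),
    (.ovl [5] 4 [], [0, 0, 0, 0, 0, 0, 0, 1, 1, 1, 0, 0, 0, 0, 0, 0, 0, 0, 0, 0, 0, 0, 0, 0, 0, 0, 0, 0, 0, 0, 0, 0, 0, 0, 0, 0, 0, 0, 0, 0, 0, 0, 1, 1, 1, 0, 0, 1, 1, 0, 0, 0, 1, 1, 1]),
    (.ovl [6] 4 [], [0, 0, 0, 0, 0, 0, 0, 0, 1, 0, 0, 0, 0, 0, 0, 0, 0, 0, 0, 0, 0, 0, 0, 0, 0, 0, 0, 0, 0, 0, 0, 0, 0, 0, 0, 0, 0, 0, 0, 0, 0, 0, 0, 1, 0, 0, 0, 0, 0, 0, 1, 1, 0, 0, 0]),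
    (.ovl [7] 4 [], [0, 0, 0, 0, 0, 0, 0, 0, 0, 0, 0, 0, 0, 0, 0, 0, 0, 0, 0, 0, 0, 0, 0, 0, 0, 0, 0, 0, 0, 0, 0, 0, 0, 0, 0, 0, 0, 0, 0, 0, 0, 0, 0, 0, 0, 0, 0, 0, 0, 0, 0, 0, 1, 1]),
    (.ovl [6] 6 [], [0, 0, 0, 0, 0, 0, 0, 0, 0, 0, 0, 0, 0, 0, 0, 0, 0, 0, 0, 0, 0, 0, 0, 0, 0, 0, 0, 0, 0, 0, 0, 0, 0, 0, 0, 0, 0, 0, 0, 0, 0, 0, 0, 0, 0, 0, 0, 0, 0, 0, 1]),
    (.ovl [1] 10 [], [0, 0, 1, 1, 0, 1, 1, 1, 0, 0, 0, 0, 0, 0, 0, 0, 0, 0, 0, 1, 1, 0, 1, 1, 0, 1, 0, 1, 0, 1, 1, 0, 1, 1, 0, 0, 1, 0, 1, 1, 0, 0, 0, 0, 0, 1, 1, 0, 0, 0, 1, 1, 0, 1, 0]),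
    (.ovl [2] 10 [], [0, 0, 0, 0, 0, 0, 0, 0, 1, 0, 0, 0, 0, 0, 1, 1, 1, 1, 0, 0, 0, 1, 0, 1, 0, 1, 1, 1, 1, 0, 1, 0, 0, 0, 1, 1, 1, 0, 0, 0, 0, 1, 0, 1, 0, 1, 1, 0, 0, 0, 1, 0, 0, 0, 0]),
    (.ovl [3] 10 [], [0, 0, 0, 0, 0, 0, 1, 1, 0, 0, 0, 0, 0, 0, 1, 1, 1, 1, 1, 0, 0, 1, 0, 1, 0, 0, 0, 1, 1, 1, 0, 0, 0, 0, 1, 0, 1, 0, 1, 1, 0, 1, 0, 0, 1, 0, 1, 1, 1, 1, 0, 0, 1, 1, 1]),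
    (.ovl [4] 10 [], [0, 0, 0, 0, 0, 0, 1, 1, 0, 1, 0, 0, 0, 0, 0, 0, 1, 0, 1, 0, 0, 0, 0, 0, 0, 0, 1, 0, 1, 0, 0, 1, 0, 0, 1, 0, 1, 0, 0, 1, 1, 1, 0, 1, 0, 0, 0, 1, 1, 0, 0, 1, 0, 0, 0]),
    (.ovl [5] 10 [], [0, 0, 0, 0, 0, 0, 0, 0, 1, 0, 0, 0, 0, 0, 0, 0, 1, 0, 1, 0, 0, 0, 0, 1, 0, 0, 1, 0, 0, 1, 1, 0, 0, 1, 0, 1, 1, 1, 1, 0, 0, 0, 0, 0, 0, 0, 1, 0, 0, 1, 1, 0, 1, 1, 1]),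
    (.ovl [6] 10 [], [0, 0, 0, 0, 0, 0, 0, 1, 1, 1, 0, 0, 0, 0, 0, 0, 1, 0, 1, 0, 0, 0, 0, 0, 0, 1, 0, 0, 0, 0, 1, 1, 1, 1, 0, 0, 1, 0, 1, 0, 0, 0, 0, 0, 0, 1, 1, 1, 1, 1, 1, 1, 0, 1, 1]),
    (.ovl [7] 10 [], [0, 0, 0, 0, 0, 0, 0, 0, 1, 0, 0, 0, 0, 0, 0, 0, 0, 0, 0, 0, 0, 0, 0, 0, 0, 1, 0, 0, 0, 0, 0, 1, 1, 0, 0, 0, 0, 1, 0, 0, 0, 0, 0, 0, 0, 0, 1, 1, 0, 1, 1, 0, 1]),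
    (.ovl [2] 11 [], [0, 0, 0, 0, 1, 0, 1, 0, 0, 1, 0, 0, 0, 0, 1, 0, 0, 0, 0, 0, 0, 0, 0, 0, 0, 0, 0, 0, 1, 0, 1, 0, 1, 1, 0, 0, 0, 0, 0, 0, 0, 0, 1, 1, 0, 0, 0, 1, 1, 1, 0, 1, 1, 0, 1]),
    (.ovl [3] 11 [], [0, 0, 0, 0, 0, 0, 0, 0, 1, 0, 0, 0, 0, 0, 0, 1, 1, 1, 0, 0, 0, 0, 0, 0, 0, 0, 0, 0, 1, 0, 1, 0, 0, 0, 1, 0, 1, 0, 1, 1, 0, 0, 0, 0, 1, 0, 0, 0, 0, 1, 0, 0, 1, 1, 0]),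
    (.ovl [4] 11 [], [0, 0, 0, 0, 0, 0, 0, 0, 1, 0, 0, 0, 0, 0, 0, 1, 1, 1, 1, 0, 0, 0, 0, 0, 0, 0, 0, 0, 0, 0, 0, 0, 0, 1, 0, 0, 0, 0, 0, 0, 0, 0, 1, 0, 1, 0, 0, 0, 0, 1, 0, 0, 0, 0, 0]),
    (.ovl [5] 14 [], [0, 0, 0, 0, 0, 0, 1, 0, 1, 1, 0, 0, 0, 0, 0, 0, 0, 0, 0, 0, 0, 0, 0, 0, 0, 0, 0, 0, 0, 0, 0, 0, 0, 0, 0, 0, 0, 0, 0, 0, 0, 0, 0, 0, 0, 1, 0, 0, 1, 0, 1, 1]),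
    (.cnj 0 [2, 2] [1], [0, 0, 0, 0, 0, 0, 1, 0, 1, 1, 0, 0, 0, 0, 0, 1, 0, 0, 1, 0, 0, 0, 0, 0, 0, 0, 0, 0, 0, 0, 0, 0, 0, 0, 0, 0, 0, 0, 0, 0, 0, 0, 0, 0, 0, 0, 0, 0, 0, 0, 1, 0, 0, 0, 1, 0, 1, 0]),
    (.cnj 0 [3, 3] [0, 1], [1, 0, 0, 0, 0, 0, 0, 1, 0, 1, 0, 0, 0, 1, 0, 0, 0, 0, 0, 0, 0, 0, 0, 0, 0, 0, 0, 0, 0, 0, 0, 0, 0, 0, 0, 0, 0, 0, 0, 0, 0, 0, 1, 0, 1, 0, 0, 0, 0, 0, 0, 0, 0, 0, 0, 1, 1, 0, 0]),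
    (.cnj 0 [4, 4] [0], [0, 0, 0, 0, 0, 0, 0, 0, 0, 1, 0, 0, 0, 0, 0, 0, 0, 0, 0, 0, 0, 0, 0, 0, 0, 0, 0, 0, 0, 0, 0, 0, 0, 0, 0, 0, 0, 0, 0, 0, 0, 0, 0, 0, 0, 0, 0, 0, 0, 0, 0, 1, 0, 1, 0, 1, 0, 0, 0, 0]),
    (.cnj 0 [6, 1] [1, 6], [0, 0, 0, 0, 0, 0, 0, 0, 0, 0, 0, 0, 0, 0, 0, 0, 0, 0, 1, 0, 0, 0, 0, 0, 0, 0, 1, 0, 0, 0, 0, 0, 0, 0, 0, 0, 0, 0, 0, 1, 0, 0, 0, 0, 0, 0, 0, 0, 1, 0, 0, 0, 0, 0, 1, 0, 0, 0, 0, 0, 0, 0]),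
    (.cnj 0 [4, 3, 6] [6, 3], [0, 0, 0, 0, 1, 0, 1, 1, 0, 0, 0, 1, 1, 1, 0, 0, 1, 0, 1, 0, 0, 1, 0, 1, 0, 0, 1, 0, 0, 0, 0, 1, 1, 0, 0, 0, 1, 1, 0, 0, 1, 1, 0, 0, 0, 0, 0, 1, 1, 0, 1, 1, 0, 0, 0, 0, 0, 0, 0, 1, 0, 0]),
    (.cnj 0 [2, 6, 2, 6] [4], [1, 1, 1, 0, 0, 1, 1, 0, 0, 1, 0, 0, 0, 1, 0, 0, 1, 0, 1, 1, 0, 0, 1, 1, 0, 1, 0, 0, 0, 1, 0, 1, 0, 1, 1, 0, 0, 1, 0, 0, 0, 1, 1, 0, 1, 0, 0, 0, 0, 1, 1, 0, 0, 0, 1, 0, 0, 0, 0, 1, 0, 0]),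
    (.cnj 7 [8, 8] [], [0, 0, 0, 0, 0, 1, 1, 0, 0, 0, 0, 0, 0, 0, 0, 0, 0, 0, 0, 0, 0, 0, 0, 0, 0, 0, 0, 0, 0, 0, 0, 0, 0, 0, 0, 0, 0, 0, 0, 0, 0, 0, 0, 0, 0, 1, 0, 0, 0, 0, 1, 0, 0, 0, 0, 0, 0, 0, 0, 0, 0, 0, 0, 0]),
    (.cnj 7 [11, 11] [], [0, 1, 0, 0, 0, 1, 1, 1, 1, 0, 0, 0, 0, 0, 0, 0, 0, 0, 0, 0, 0, 0, 0, 0, 0, 0, 0, 0, 0, 0, 0, 0, 0, 0, 0, 0, 0, 0, 0, 0, 0, 0, 0, 0, 0, 1, 1, 0, 0, 1, 1, 0, 0, 0, 0, 0, 0, 0, 0, 0, 0, 0, 0, 0, 0, 0, 0]),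
    (.cnj 7 [12, 12] [9, 10], [0, 1, 1, 1, 0, 1, 1, 0, 0, 0, 0, 0, 0, 0, 0, 0, 0, 0, 0, 1, 1, 1, 1, 0, 0, 0, 0, 1, 1, 1, 0, 0, 0, 1, 1, 0, 1, 1, 1, 0, 1, 0, 0, 1, 0, 1, 0, 1, 1, 0, 0, 0, 1, 1, 0, 0, 0, 0, 0, 0, 0, 0, 0, 0, 1, 1, 0, 0]),
    (.cnj 7 [7, 10, 12] [12, 7], [0, 0, 0, 0, 0, 1, 1, 1, 0, 0, 0, 0, 0, 0, 0, 0, 0, 0, 0, 1, 1, 0, 1, 0, 1, 0, 1, 0, 0, 0, 0, 1, 0, 1, 0, 1, 1, 0, 0, 1, 0, 0, 0, 0, 1, 1, 1, 1, 1, 0, 1, 1, 1, 1, 0, 0, 0, 0, 0, 0, 0, 0, 0, 0, 0, 1, 0, 0]),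
    (.cnj 7 [13, 7, 13] [7, 9], [0, 1, 0, 1, 1, 1, 0, 0, 1, 1, 0, 0, 0, 0, 0, 0, 0, 0, 0, 1, 0, 1, 1, 0, 0, 0, 1, 1, 1, 0, 1, 1, 0, 1, 0, 0, 1, 0, 0, 1, 1, 1, 1, 0, 0, 0, 1, 1, 0, 1, 1, 1, 1, 0, 1, 0, 0, 0, 0, 0, 0, 0, 0, 0, 1, 0, 0, 0, 0]),
    (.cnj 7 [13, 11, 13] [11], [0, 1, 0, 1, 1, 0, 1, 1, 1, 0, 0, 0, 0, 0, 0, 0, 0, 0, 0, 0, 1, 1, 0, 1, 1, 0, 0, 1, 1, 1, 0, 1, 0, 0, 0, 0, 1, 1, 1, 1, 1, 1, 0, 1, 0, 1, 0, 1, 1, 0, 1, 1, 0, 1, 0, 0, 0, 0, 0, 0, 0, 0, 0, 0, 0, 0, 0, 0, 0])]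
  lam := [[], [], [0, 0, 1, 0, 1, 0, 0, 0, 0, 0, 1, 0, 0, 0, 1], [], [1, 0, 0, 0, 1, 0, 0, 0, 0, 0, 0, 1, 0, 0, 1], [0, 0, 1], [1, 0, 0, 0, 0, 0, 0, 0, 0, 0, 0, 0, 0, 0, 1], [0, 0, 1, 1, 0, 0, 0, 0, 0, 0, 0, 0, 0, 0, 1], [1, 0, 0, 0, 1], [1]]
  combos := [[],
    [(0, 1), (2, 1), (3, 1), (6, 1), (12, 1), (13, 1), (15, 1), (16, 1), (20, 1), (21, 1), (24, 1), (25, 1), (28, 1), (29, 1), (31, 1), (32, 1), (33, 1), (35, 1), (38, 1), (39, 1), (47, 1), (48, 1)],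
    [],
    [],
    [],
    [(0, 1), (4, 1), (18, 1), (25, 1), (27, 1), (29, 1), (40, 1), (47, 1)],
    [(0, 1), (2, 1), (6, 1), (9, 1), (10, 1), (12, 1), (14, 1), (19, 1), (20, 1), (22, 1), (23, 1), (31, 1), (32, 1), (36, 1), (41, 1), (42, 1), (43, 1)],
    [(5, 1), (7, 1), (8, 1), (9, 1), (10, 1), (13, 1), (16, 1), (17, 1), (18, 1), (19, 1), (20, 1), (21, 1), (22, 1), (24, 1), (25, 1), (26, 1), (27, 1), (28, 1), (29, 1), (33, 1), (38, 1)],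
    [(6, 1), (7, 1), (17, 1), (18, 1), (21, 1), (22, 1), (23, 1), (24, 1)],
    [(0, 1), (4, 1), (8, 1), (18, 1), (21, 1), (22, 1), (23, 1), (25, 1), (27, 1), (28, 1)],
    [],
    [],
    [(2, 1), (5, 1), (6, 1), (7, 1), (11, 1), (16, 1), (19, 1), (23, 1), (25, 1), (30, 1), (31, 1), (32, 1), (35, 1), (38, 1), (41, 1), (42, 1), (43, 1), (44, 1), (45, 1), (46, 1), (52, 1)],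
    [(0, 1), (4, 1), (5, 1), (6, 1), (7, 1), (8, 1), (17, 1), (18, 1), (21, 1), (22, 1), (23, 1), (25, 1), (26, 1), (41, 1), (42, 1), (43, 1)],
    [],
    [(0, 1), (2, 1), (4, 1), (5, 1), (6, 1), (9, 1), (10, 1), (12, 1), (14, 1), (18, 1), (19, 1), (20, 1), (22, 1), (23, 1), (25, 1), (27, 1), (29, 1), (31, 1), (32, 1), (36, 1), (41, 1), (42, 1), (43, 1)],
    [(0, 1), (3, 1), (4, 1), (14, 1), (16, 1), (17, 1), (18, 1), (21, 1), (22, 1), (27, 1), (29, 1), (33, 1), (38, 1), (39, 1), (41, 1), (42, 1), (43, 1), (44, 1)],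
    [(6, 1), (8, 1), (18, 1), (21, 1), (22, 1), (23, 1), (28, 1), (29, 1)],
    [(0, 1)],
    [(0, 1), (1, 1), (3, 1), (8, 1), (9, 1), (11, 1), (13, 1), (14, 1), (16, 1), (17, 1), (19, 1), (20, 1), (21, 1), (22, 1), (24, 1), (25, 1), (28, 1), (31, 1), (33, 1), (36, 1), (40, 1), (41, 1), (42, 1), (43, 1), (44, 1), (45, 1), (46, 1), (47, 1), (48, 1)],
    [(2, 1), (6, 1), (11, 1), (12, 1), (13, 1), (16, 1), (18, 1), (21, 1), (23, 1), (24, 1), (26, 1), (28, 1), (31, 1), (33, 1), (35, 1), (37, 1), (39, 1), (41, 1), (42, 1), (43, 1), (44, 1), (47, 1), (48, 1), (52, 1)],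
    [(1, 1), (2, 1), (3, 1), (7, 1), (11, 1), (12, 1), (16, 1), (17, 1), (19, 1), (22, 1), (23, 1), (24, 1), (27, 1), (29, 1), (30, 1), (31, 1), (34, 1), (36, 1), (37, 1), (38, 1), (39, 1), (40, 1), (44, 1), (45, 1), (46, 1), (52, 1)],
    [(1, 1), (2, 1), (3, 1), (6, 1), (8, 1), (10, 1), (12, 1), (14, 1), (16, 1), (19, 1), (21, 1), (24, 1), (25, 1), (29, 1), (31, 1), (35, 1), (37, 1), (45, 1), (46, 1), (48, 1), (49, 1), (50, 1), (51, 1)],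
    [(0, 1), (1, 1), (5, 1), (6, 1), (9, 1), (10, 1), (11, 1), (12, 1), (13, 1), (14, 1), (15, 1), (17, 1), (20, 1), (25, 1), (26, 1), (27, 1), (28, 1), (31, 1), (33, 1), (35, 1), (36, 1), (37, 1), (38, 1), (45, 1), (46, 1), (47, 1), (48, 1), (49, 1), (50, 1), (51, 1)],
    [(5, 1), (6, 1), (8, 1), (11, 1), (13, 1), (16, 1), (19, 1), (20, 1), (21, 1), (22, 1), (25, 1), (26, 1), (27, 1), (33, 1), (38, 1)],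
    [(0, 1), (5, 1), (7, 1), (8, 1), (13, 1), (19, 1), (21, 1), (26, 1), (27, 1), (28, 1), (35, 1), (39, 1)],
    [(0, 1), (4, 1), (6, 1), (7, 1), (9, 1), (10, 1), (21, 1), (22, 1), (23, 1), (25, 1), (27, 1), (28, 1)],
    [(0, 1), (1, 1), (3, 1), (5, 1), (6, 1), (8, 1), (11, 1), (12, 1), (15, 1), (20, 1), (22, 1), (27, 1), (29, 1), (30, 1), (31, 1), (32, 1), (33, 1), (35, 1), (37, 1), (38, 1), (39, 1), (40, 1), (41, 1), (42, 1), (43, 1), (44, 1), (45, 1), (46, 1), (52, 1)],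
    [(0, 1), (1, 1), (4, 1), (6, 1), (7, 1), (11, 1), (12, 1), (14, 1), (17, 1), (19, 1), (22, 1), (25, 1), (26, 1), (29, 1), (32, 1), (34, 1), (36, 1), (45, 1), (46, 1), (47, 1), (48, 1), (49, 1), (50, 1), (51, 1)],
    [(12, 1)],
    [(0, 1), (1, 1), (2, 1), (4, 1), (6, 1), (11, 1), (12, 1), (13, 1), (15, 1), (21, 1), (23, 1), (27, 1), (29, 1), (32, 1), (33, 1), (34, 1), (35, 1), (37, 1), (38, 1), (39, 1), (41, 1), (42, 1), (43, 1), (44, 1), (45, 1), (46, 1), (47, 1), (48, 1), (49, 1), (50, 1), (51, 1)],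
    [(2, 1), (4, 1), (6, 1), (9, 1), (10, 1), (12, 1), (14, 1), (19, 1), (22, 1), (23, 1), (24, 1), (27, 1), (29, 1), (31, 1), (32, 1), (33, 1), (35, 1), (38, 1), (39, 1), (40, 1), (41, 1), (42, 1), (43, 1), (44, 1)],
    [(0, 1), (2, 1), (3, 1), (4, 1), (5, 1), (6, 1), (7, 1), (8, 1), (13, 1), (15, 1), (16, 1), (19, 1), (21, 1), (22, 1), (24, 1), (26, 1), (28, 1), (29, 1), (35, 1), (36, 1), (39, 1)],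
    [(2, 1), (3, 1), (7, 1), (8, 1), (9, 1), (10, 1), (25, 1), (29, 1), (44, 1)],
    [(0, 1), (1, 1), (3, 1), (5, 1), (7, 1), (11, 1), (18, 1), (20, 1), (21, 1), (24, 1), (26, 1), (28, 1), (29, 1), (31, 1), (34, 1), (35, 1), (36, 1), (38, 1), (41, 1), (42, 1), (43, 1), (44, 1), (45, 1), (46, 1), (47, 1), (48, 1), (49, 1), (50, 1), (51, 1)],
    [(1, 1), (3, 1), (4, 1), (5, 1), (6, 1), (9, 1), (10, 1), (11, 1), (16, 1), (18, 1), (19, 1), (20, 1), (21, 1), (22, 1), (23, 1), (25, 1), (26, 1), (28, 1), (29, 1), (31, 1), (34, 1), (35, 1), (36, 1), (37, 1), (39, 1), (40, 1), (41, 1), (42, 1), (43, 1), (45, 1), (46, 1), (47, 1), (48, 1), (49, 1), (50, 1), (51, 1)],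
    [(1, 1), (2, 1), (3, 1), (5, 1), (6, 1), (7, 1), (8, 1), (11, 1), (12, 1), (14, 1), (16, 1), (18, 1), (19, 1), (23, 1), (26, 1), (27, 1), (28, 1), (32, 1), (34, 1), (35, 1), (37, 1), (39, 1), (45, 1), (46, 1), (47, 1), (48, 1), (49, 1), (50, 1), (51, 1)],
    [(0, 1), (2, 1), (5, 1), (6, 1), (7, 1), (14, 1), (16, 1), (17, 1), (18, 1), (22, 1), (23, 1), (24, 1), (26, 1), (27, 1), (33, 1), (38, 1), (40, 1), (41, 1), (42, 1), (43, 1), (44, 1)],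
    [(0, 1), (2, 1), (3, 1), (5, 1), (6, 1), (7, 1), (9, 1), (10, 1), (12, 1), (15, 1), (18, 1), (19, 1), (22, 1), (23, 1), (24, 1), (26, 1), (27, 1), (28, 1), (29, 1), (31, 1), (32, 1), (35, 1), (39, 1)],
    [(4, 1), (6, 1), (7, 1), (8, 1), (9, 1), (10, 1), (18, 1), (21, 1), (22, 1), (23, 1), (25, 1), (27, 1), (28, 1), (44, 1)],
    [(0, 1), (1, 1), (2, 1), (5, 1), (11, 1), (13, 1), (14, 1), (16, 1), (17, 1), (19, 1), (20, 1), (24, 1), (25, 1), (26, 1), (27, 1), (28, 1), (29, 1), (31, 1), (34, 1), (35, 1), (36, 1), (37, 1), (39, 1), (40, 1), (41, 1), (42, 1), (43, 1), (44, 1), (45, 1), (46, 1), (47, 1), (48, 1), (49, 1), (50, 1), (51, 1)],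
    [(3, 1), (6, 1), (7, 1), (9, 1), (10, 1), (21, 1), (22, 1), (23, 1), (24, 1), (26, 1), (27, 1), (28, 1), (29, 1), (41, 1), (42, 1), (43, 1), (44, 1)],
    [(0, 1), (4, 1), (5, 1), (6, 1), (8, 1), (9, 1), (10, 1), (13, 1), (16, 1), (17, 1), (19, 1), (20, 1), (21, 1), (22, 1), (25, 1), (28, 1), (29, 1), (33, 1), (38, 1)],
    [(8, 1), (18, 1), (21, 1), (22, 1), (23, 1), (27, 1), (28, 1)],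
    [(8, 1), (18, 1), (21, 1), (22, 1), (23, 1), (25, 1), (27, 1), (28, 1)],
    [(2, 1), (4, 1), (6, 1), (9, 1), (10, 1), (12, 1), (14, 1), (18, 1), (19, 1), (20, 1), (22, 1), (23, 1), (25, 1), (27, 1), (31, 1), (32, 1), (36, 1), (40, 1), (41, 1), (42, 1), (43, 1)],
    [(0, 1), (2, 1), (3, 1), (4, 1), (5, 1), (8, 1), (13, 1), (15, 1), (17, 1), (18, 1), (19, 1), (23, 1), (26, 1), (28, 1), (29, 1), (35, 1), (36, 1), (39, 1)],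
    [(17, 1)],
    [(18, 1)],
    [(4, 1), (9, 1), (10, 1), (12, 1), (13, 1), (17, 1), (18, 1), (21, 1), (24, 1), (27, 1), (28, 1), (29, 1), (31, 1), (32, 1), (36, 1)],
    [(29, 1)],
    [(6, 1), (7, 1), (8, 1), (17, 1), (24, 1), (28, 1), (29, 1)],
    [(8, 1), (17, 1), (24, 1), (29, 1)],
    [(8, 1), (17, 1), (24, 1), (28, 1), (29, 1)],
    [(8, 1)]]

end CfsgLib.KnownB.Mult.HS.P2
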