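import Cfsg.Agent.Lib.KnownB.Mult.HS.P2Data

/-! Relations of the certificate at 2 for the double cover of the Higman-Sims group. -/

set_option autoImplicit false
set_option maxRecDepth 100000
set_option Elab.async false

namespace CfsgLib.KnownB.Mult.HS.P2

open CfsgLib.KnownB.Mult

theorem rel0 : (piece cert.rules 12 0).all (cert.ruleF K) = true := by decide +kernel

theorem rel1 : (piece cert.rules 12 1).all (cert.ruleF K) = true := by decide +kernel

theorem rel2 : (piece cert.rules 12 2).all (cert.ruleF K) = true := by decide +kernel

theorem rel3 : (piece cert.rules 12 3).all (cert.ruleF K) = true := by decide +kernel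

theorem rel4 : (piece cert.rules 12 4).all (cert.ruleF K) = true := by decide +kernel

theorem rel_conj : (List.range cert.conjs.length).all (cert.cnjF K) = true := by decide +kernel

end CfsgLib.KnownB.Mult.HS.P2
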